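import Mathlib

/-! Shearing, translations and open maps for group schemes. -/

set_option autoImplicit false
universe v u

open CategoryTheory MonoidalCategory CartesianMonoidalCategory MonObj AlgebraicGeometry Limits

noncomputable section

namespace Groth.Agent.GrpSchLib

section Shear

variable {C : Type u} [Category.{v} C] [CartesianMonoidalCategory C] {G T : C} [GrpObj G] (ψ : T ⟶ G)

/-- `(t, g) ↦ (t, ψ(t) g)`. -/
def shear : T ⊗ G ≅ T ⊗ G where
  hom := lift (fst T G) ((fst T G ≫ ψ) * snd T G)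
  inv := lift (fst T G) ((fst T G ≫ ψ)⁻¹ * snd T G)
  hom_inv_id := by
    refine CartesianMonoidalCategory.hom_ext _ _ (by simp) ?_
    rw [Category.assoc, lift_snd, MonObj.comp_mul, GrpObj.comp_inv, ← Category.assoc, lift_fst, lift_snd,
      Category.id_comp]
    exact inv_mul_cancel_left _ _
  inv_hom_id := by
    refine CartesianMonoidalCategory.hom_ext _ _ (by simp) ?_
    rw [Category.assoc, lift_snd, MonObj.comp_mul, ← Category.assoc, lift_fst, lift_snd, Category.id_comp]
    exact mul_inv_cancel_left _ _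

theorem whiskerRight_mul : ψ ▷ G ≫ μ[G] = (fst T G ≫ ψ) * snd T G := by
  rw [Hom.mul_def]
  congr 1
  refine CartesianMonoidalCategory.hom_ext _ _ ?_ ?_ <;> simp

theorem shear_snd : (shear ψ).hom ≫ snd T G = ψ ▷ G ≫ μ[G] := by
  rw [whiskerRight_mul]
  exact lift_snd _ _

theorem mul_eq_shear : μ[G] = (shear (𝟙 G)).hom ≫ snd G G := by
  rw [shear_snd]
  simp

end Shear

section Scheme

variable {S : Scheme.{u}} {T G : Over S}

/-- `T ⊗ G → G` is the base change of `T → S`. -/
theorem isPullback_fst_snd :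
    IsPullback (fst T G).left (snd T G).left T.hom G.hom := IsPullback.of_hasPullback T.hom G.hom

theorem flat_snd (h : Flat T.hom) : Flat (snd T G).left :=
  MorphismProperty.of_isPullback (P := @Flat) isPullback_fst_snd h

variable [GrpObj G] (ψ : T ⟶ G)

theorem flat_mulMap (h : Flat T.hom) : Flat (ψ ▷ G ≫ μ[G]).left := by
  rw [← shear_snd, Over.comp_left]
  haveI := flat_snd (G := G) h
  haveI : IsIso (shear ψ).hom.left := inferInstanceAs (IsIso ((Over.forget _).map (shear ψ).hom))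
  infer_instance

theorem universallyOpen_mulMap [UniversallyOpen T.hom] : UniversallyOpen (ψ ▷ G ≫ μ[G]).left := by
  haveI : UniversallyOpen (snd T G).left :=
    MorphismProperty.of_isPullback (P := @UniversallyOpen) isPullback_fst_snd ‹_›
  haveI : IsIso (shear ψ).hom.left := inferInstanceAs (IsIso ((Over.forget _).map (shear ψ).hom))
  rw [← shear_snd, Over.comp_left]
  infer_instance

end Scheme

section Field

variable {K : Type u} [Field K] {G : Over (Spec (CommRingCat.of K))}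

/-- A point as a morphism from the spectrum of its residue field. -/
abbrev ptObj (g : G.left) : Over (Spec (CommRingCat.of K)) :=
  Over.mk (G.left.fromSpecResidueField g ≫ G.hom)

/-- The tautological morphism from `ptObj`. -/
abbrev ptHom (g : G.left) : ptObj g ⟶ G := Over.homMk (G.left.fromSpecResidueField g)

theorem ptHom_apply (g : G.left) (x : (ptObj g).left) : (ptHom g).left x = g :=
  Scheme.fromSpecResidueField_apply g x

theorem surjective_snd (T : Over (Spec (CommRingCat.of K))) [Nonempty T.left] (y : G.left) :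
    ∃ z : (T ⊗ G).left, (snd T G).left z = y := by
  obtain ⟨t⟩ := ‹Nonempty T.left›
  obtain ⟨z, -, hz⟩ := Scheme.Pullback.exists_preimage_pullback (f := T.hom) (g := G.hom) t y
    (Subsingleton.elim _ _)
  exact ⟨z, hz⟩

theorem exists_lift {T H : Over (Spec (CommRingCat.of K))} (u : T ⟶ G) (f : H ⟶ G) (t : T.left)
    (h : u.left t ∈ Set.range f.left) :
    ∃ (T' : Over (Spec (CommRingCat.of K))) (a : T' ⟶ T) (b : T' ⟶ H) (t' : T'.left),
      a.left t' = t ∧ a ≫ u = b ≫ f := by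
  obtain ⟨y, hy⟩ := h
  obtain ⟨z, hz, -⟩ := Scheme.Pullback.exists_preimage_pullback (f := u.left) (g := f.left) t y hy.symm
  refine ⟨Over.mk (pullback.fst u.left f.left ≫ T.hom), Over.homMk (pullback.fst u.left f.left),
    Over.homMk (pullback.snd u.left f.left) ?_, z, hz, ?_⟩
  · show pullback.snd u.left f.left ≫ H.hom = pullback.fst u.left f.left ≫ T.hom
    rw [← Over.w u, ← Over.w f, ← Category.assoc, ← Category.assoc, pullback.condition]
  · ext1
    exact pullback.condition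

variable [GrpObj G]

theorem isOpenMap_mulMap {T : Over (Spec (CommRingCat.of K))} (ψ : T ⟶ G) :
    IsOpenMap (ψ ▷ G ≫ μ[G]).left := by
  haveI := universallyOpen_mulMap ψ
  exact (ψ ▷ G ≫ μ[G]).left.isOpenMap

theorem isOpenMap_mul : IsOpenMap μ[G].left := by
  have h := isOpenMap_mulMap (𝟙 G)
  rwa [MonoidalCategory.id_whiskerRight, Category.id_comp] at h

/-- An open image of a homomorphism is closed. -/
theorem isClosed_range_of_isOpen {H : Over (Spec (CommRingCat.of K))} [GrpObj H] (ψ : H ⟶ G) [IsMonHom ψ]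
    (h : IsOpen (Set.range ψ.left)) : IsClosed (Set.range ψ.left) := by
  refine isClosed_of_closure_subset fun g hg => ?_
  let V := (ptHom g ▷ G ≫ μ[G]).left '' ((snd (ptObj g) G).left ⁻¹' Set.range ψ.left)
  have hVo : IsOpen V := isOpenMap_mulMap _ _ (h.preimage (snd (ptObj g) G).left.continuous)
  have hgV : g ∈ V := by
    let a : ptObj g ⟶ ptObj g ⊗ G := lift (𝟙 _) (1 : ptObj g ⟶ G)
    have ha1 : a ≫ snd _ _ = 1 := lift_snd _ _
    have ha2 : a ≫ ptHom g ▷ G ≫ μ[G] = ptHom g := by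
      rw [whiskerRight_mul, MonObj.comp_mul, ← Category.assoc, lift_fst, ha1, Category.id_comp]
      exact mul_one _
    obtain ⟨x⟩ : Nonempty (ptObj g).left := inferInstanceAs (Nonempty (Spec _))
    refine ⟨a.left x, ?_, ?_⟩
    · refine ⟨((1 : ptObj g ⟶ H)).left x, ?_⟩
      have h1 : (1 : ptObj g ⟶ H) ≫ ψ = a ≫ snd _ _ := by rw [ha1, MonObj.one_comp]
      exact congrArg (fun f : ptObj g ⟶ G => f.left x) h1
    · exact (congrArg (fun f : ptObj g ⟶ G => f.left x) ha2).trans (ptHom_apply g x)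
  obtain ⟨_, ⟨z, hz, rfl⟩, hzr⟩ := mem_closure_iff.mp hg V hVo hgV
  obtain ⟨T₁, a₁, b₁, t₁, ht₁, he₁⟩ := exists_lift (snd (ptObj g) G) ψ z hz
  obtain ⟨T₂, a₂, b₂, t₂, ht₂, he₂⟩ :=
    exists_lift (a₁ ≫ ptHom g ▷ G ≫ μ[G]) ψ t₁ (by
      rw [show (a₁ ≫ ptHom g ▷ G ≫ μ[G]).left t₁ = (ptHom g ▷ G ≫ μ[G]).left (a₁.left t₁) from rfl, ht₁]
      exact hzr)
  have e : (a₂ ≫ a₁ ≫ fst _ _ ≫ ptHom g) = (b₂ * (a₂ ≫ b₁)⁻¹) ≫ ψ := by
    rw [MonObj.mul_comp, GrpObj.inv_comp, ← he₂, Category.assoc, ← he₁, whiskerRight_mul, MonObj.comp_mul,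
      MonObj.comp_mul]
    exact (mul_inv_cancel_right _ _).symm
  refine ⟨(b₂ * (a₂ ≫ b₁)⁻¹).left t₂, ?_⟩
  refine (congrArg (fun f : T₂ ⟶ G => f.left t₂) e).symm.trans ?_
  exact ptHom_apply g _

/-- `U · V = G` for dense opens. -/
theorem mul_dense_opens (U V : G.left.Opens) (hU : Dense (U : Set G.left)) (hV : Dense (V : Set G.left)) :
    μ[G].left '' ((fst G G).left ⁻¹' (U : Set G.left) ∩ (snd G G).left ⁻¹' (V : Set G.left)) = Set.univ := by
  refine Set.eq_univ_of_forall fun g => ?_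
  let j : ptObj g ⊗ G ⟶ ptObj g ⊗ G := lift (fst _ _) (snd _ _)⁻¹
  have hj : j ≫ j = 𝟙 _ := by
    refine CartesianMonoidalCategory.hom_ext _ _ (by simp [j]) ?_
    rw [Category.assoc, lift_snd, GrpObj.comp_inv, lift_snd, inv_inv, Category.id_comp]
  haveI : IsIso j := ⟨j, hj, hj⟩
  let F := j ≫ ptHom g ▷ G ≫ μ[G]
  haveI : IsIso j.left := inferInstanceAs (IsIso ((Over.forget _).map j))
  have hFo : IsOpenMap F.left := (isOpenMap_mulMap (ptHom g)).comp j.left.homeomorph.isOpenMap
  obtain ⟨x⟩ : Nonempty (ptObj g).left := inferInstanceAs (Nonempty (Spec _))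
  haveI : Nonempty G.left := ⟨(ptHom g).left x⟩
  haveI : Nonempty (ptObj g).left := ⟨x⟩
  obtain ⟨v, hv⟩ := hV.nonempty
  obtain ⟨w, hw⟩ := surjective_snd (ptObj g) v
  obtain ⟨_, ⟨z, hz, rfl⟩, hu⟩ := hU.inter_open_nonempty (F.left '' ((snd (ptObj g) G).left ⁻¹' V))
    (hFo _ (V.isOpen.preimage (snd (ptObj g) G).left.continuous))
    ⟨F.left w, w, (show (snd (ptObj g) G).left w ∈ (V : Set G.left) from hw ▸ hv), rfl⟩
  let w' : ptObj g ⊗ G ⟶ G ⊗ G := lift F (snd _ _)
  refine ⟨w'.left z, ⟨?_, ?_⟩, ?_⟩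
  · show (w' ≫ fst G G).left z ∈ (U : Set G.left)
    rw [lift_fst]; exact hu
  · show (w' ≫ snd G G).left z ∈ (V : Set G.left)
    rw [lift_snd]; exact hz
  · have : w' ≫ μ[G] = fst _ _ ≫ ptHom g := by
      rw [← Hom.mul_def]
      show (j ≫ ptHom g ▷ G ≫ μ[G]) * _ = _
      rw [whiskerRight_mul, MonObj.comp_mul, lift_fst_assoc, lift_snd]
      exact inv_mul_cancel_right _ _
    exact (congrArg (fun f : ptObj g ⊗ G ⟶ G => f.left z) this).trans (ptHom_apply g _)

end Field

end Groth.Agent.GrpSchLib
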