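import Groth.Agent.GrpSchLib.Separated
import Groth.Agent.GeomIrred.Group

/-! The component through the unit of a group scheme over a field: it is quasi-compact, and it is the
connected component of the unit. -/

set_option autoImplicit false
universe u

open CategoryTheory MonoidalCategory CartesianMonoidalCategory MonObj AlgebraicGeometry Limits

noncomputable section

namespace Groth.Agent.GrpSchLib

variable {K : Type u} [Field K] {G : Over (Spec (CommRingCat.of K))} [GrpObj G]

variable (G) in
/-- The unit point. -/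
abbrev unitPt : G.left := η[G].left (IsLocalRing.closedPoint K)

theorem one_apply (T : Over (Spec (CommRingCat.of K))) (t : T.left) : (1 : T ⟶ G).left t = unitPt G := by
  rw [Hom.one_def, Over.comp_left, Scheme.Hom.comp_apply]
  exact congrArg η[G].left (Subsingleton.elim (α := PrimeSpectrum K) _ _)

theorem range_unit : Set.range η[G].left = {unitPt G} := by
  refine Set.eq_singleton_iff_unique_mem.mpr ⟨⟨_, rfl⟩, ?_⟩
  rintro _ ⟨z, rfl⟩
  exact congrArg η[G].left (Subsingleton.elim (α := PrimeSpectrum K) _ _)

theorem isClosed_unitPt : IsClosed ({unitPt G} : Set G.left) := by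
  refine isClosed_of_closure_subset fun z hz => ?_
  obtain ⟨U, hU, hzU, -⟩ := exists_isAffineOpen_mem_and_subset (X := G.left) (x := z) (U := ⊤) trivial
  have heU : unitPt G ∈ U := (specializes_iff_mem_closure.mpr hz).mem_open U.2 hzU
  haveI : IsAffine (U : Scheme) := hU
  let r : Spec (CommRingCat.of K) ⟶ U.toScheme := IsOpenImmersion.lift U.ι η[G].left (by
    rw [Scheme.Opens.range_ι, range_unit]
    exact Set.singleton_subset_iff.mpr heU)
  have hr : r ≫ U.ι = η[G].left := IsOpenImmersion.lift_fac _ _ _
  haveI : IsClosedImmersion (r ≫ U.ι ≫ G.hom) := by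
    rw [← Category.assoc, hr, Over.w η[G]]
    exact inferInstanceAs (IsClosedImmersion (𝟙 (Spec (CommRingCat.of K))))
  haveI : IsClosedImmersion r := IsClosedImmersion.of_comp r (U.ι ≫ G.hom)
  have hcl := r.isClosedEmbedding.isClosed_range
  obtain ⟨z', rfl⟩ : z ∈ Set.range U.ι := by rw [Scheme.Opens.range_ι]; exact hzU
  have hz' : z' ∈ closure (Set.range r) := by
    rw [U.ι.isEmbedding.closure_eq_preimage_closure_image, Set.mem_preimage, ← Set.range_comp]
    have : ⇑U.ι ∘ ⇑r = ⇑η[G].left := funext fun w => congrArg (fun m => m w) hr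
    rwa [this, range_unit]
  rw [hcl.closure_eq] at hz'
  obtain ⟨w, rfl⟩ := hz'
  rw [← Scheme.Hom.comp_apply, hr]
  exact range_unit.le ⟨w, rfl⟩

theorem isClosedImmersion_unit : IsClosedImmersion η[G].left := by
  haveI : IsImmersion (η[G].left ≫ G.hom) := by
    rw [Over.w η[G]]; exact inferInstanceAs (IsImmersion (𝟙 (Spec (CommRingCat.of K))))
  haveI : IsImmersion η[G].left := IsImmersion.of_comp η[G].left G.hom
  exact IsClosedImmersion.of_isPreimmersion _ (range_unit (G := G) ▸ isClosed_unitPt)

theorem isSeparated_hom : IsSeparated G.hom := by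
  rw [isSeparated_iff]
  exact (diagonal_iff_unit @IsClosedImmersion).mpr isClosedImmersion_unit

theorem quasiSeparatedSpace : QuasiSeparatedSpace G.left := by
  haveI := isSeparated_hom (G := G)
  exact quasiSeparatedSpace_of_quasiSeparated G.hom

theorem eq_irreducibleComponent {x : G.left} {Z : Set G.left} (hZ : Z ∈ irreducibleComponents (G.left : Type u))
    (hx : x ∈ Z) : Z = irreducibleComponent x :=
  (GeomIrred.existsUnique_irreducibleComponent x).unique ⟨hZ, hx⟩
    ⟨irreducibleComponent_mem_irreducibleComponents x, mem_irreducibleComponent⟩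

theorem irreducibleComponent_eq_of_mem {x y : G.left} (h : y ∈ irreducibleComponent x) :
    irreducibleComponent x = irreducibleComponent y :=
  eq_irreducibleComponent (irreducibleComponent_mem_irreducibleComponents x) h

theorem subset_irreducibleComponent {x : G.left} {S : Set G.left} (hS : IsIrreducible S) (hx : x ∈ S) :
    S ⊆ irreducibleComponent x := by
  obtain ⟨Z, hZ, hSZ, hmax⟩ := exists_preirreducible S hS.isPreirreducible
  have hZc : Z ∈ irreducibleComponents (G.left : Type u) :=
    ⟨⟨⟨x, hSZ hx⟩, hZ⟩, fun W hW hZW => (hmax W hW.isPreirreducible hZW).le⟩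
  exact (eq_irreducibleComponent hZc (hSZ hx)) ▸ hSZ

variable (G) in
/-- The component through the unit. -/
abbrev idComp : Set G.left := irreducibleComponent (unitPt G)

theorem mem_idComp_of_specializes {x : G.left} (h : x ⤳ unitPt G) : x ∈ idComp G :=
  subset_irreducibleComponent isIrreducible_singleton.closure h.mem_closure (subset_closure rfl)

variable (G) in
/-- The reduced closed subscheme on the component through the unit. -/
def idSub : G.left.IdealSheafData :=
  Scheme.IdealSheafData.vanishingIdeal ⟨idComp G, isClosed_irreducibleComponent⟩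

variable (G) in
/-- The component through the unit, as a scheme over the field. -/
abbrev idObj : Over (Spec (CommRingCat.of K)) := Over.mk ((idSub G).subschemeι ≫ G.hom)

variable (G) in
/-- Its inclusion. -/
abbrev idIncl : idObj G ⟶ G := Over.homMk (idSub G).subschemeι rfl

theorem range_idIncl : Set.range (idIncl G).left = idComp G := by
  show Set.range (idSub G).subschemeι = _
  rw [Scheme.IdealSheafData.range_subschemeι, idSub, Scheme.IdealSheafData.coe_support_vanishingIdeal]
  rfl

instance : IsClosedImmersion (idIncl G).left := inferInstanceAs (IsClosedImmersion (idSub G).subschemeι)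

instance irreducibleSpace_idObj : IrreducibleSpace ↥(idObj G).left := by
  refine (idIncl G).left.isEmbedding.toHomeomorph.irreducibleSpace_iff.mpr
    (isIrreducible_iff_irreducibleSpace.mp ?_)
  rw [range_idIncl]
  exact isIrreducible_irreducibleComponent

instance geometricallyIrreducible_idObj : GeometricallyIrreducible (idObj G).hom :=
  GeomIrred.geometricallyIrreducible_component (idSub G).subschemeι
    (by
      show Set.range (idIncl G).left ∈ _
      rw [range_idIncl]
      exact irreducibleComponent_mem_irreducibleComponents _)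
    (by
      show _ ∈ Set.range (idIncl G).left
      rw [range_idIncl]
      exact mem_irreducibleComponent)

instance irreducibleSpace_ptObj (g : G.left) : IrreducibleSpace ↥(ptObj g).left :=
  inferInstanceAs (IrreducibleSpace ↥(Spec _))

theorem irreducibleSpace_idObj_tensor (T : Over (Spec (CommRingCat.of K))) [IrreducibleSpace T.left] :
    IrreducibleSpace (idObj G ⊗ T).left :=
  inferInstanceAs (IrreducibleSpace ↥(pullback (idObj G).hom T.hom))

theorem exists_eq_one {T : Over (Spec (CommRingCat.of K))} (v : T ⟶ G) (t : T.left) (h : v.left t = unitPt G) :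
    ∃ (T' : Over (Spec (CommRingCat.of K))) (a : T' ⟶ T) (t' : T'.left), a.left t' = t ∧ a ≫ v = 1 := by
  obtain ⟨T', a, b, t', ht, he⟩ := exists_lift v η[G] t ⟨IsLocalRing.closedPoint K, h.symm⟩
  refine ⟨T', a, t', ht, he.trans ?_⟩
  rw [toUnit_unique b (toUnit T'), Hom.one_def]

theorem exists_idObj_point : ∃ z : (idObj G).left, (idIncl G).left z = unitPt G :=
  (range_idIncl (G := G)).ge mem_irreducibleComponent

variable (G) in
/-- Inversion, as the inverse of the identity in `Hom(G, G)`. -/
abbrev invM : G ⟶ G := (𝟙 G)⁻¹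

theorem comp_invM {T : Over (Spec (CommRingCat.of K))} (v : T ⟶ G) : v ≫ invM G = v⁻¹ := by
  rw [GrpObj.comp_inv, Category.comp_id]

theorem invM_invM (x : G.left) : (invM G).left ((invM G).left x) = x := by
  have h : invM G ≫ invM G = 𝟙 G := by rw [comp_invM, inv_inv]
  exact congrArg (fun m : G ⟶ G => m.left x) h

theorem invM_unitPt : (invM G).left (unitPt G) = unitPt G := by
  have h : (1 : 𝟙_ (Over (Spec (CommRingCat.of K))) ⟶ G) ≫ invM G = 1 := by rw [comp_invM, inv_one]
  have h2 := congrArg (fun m : 𝟙_ (Over (Spec (CommRingCat.of K))) ⟶ G => m.left (IsLocalRing.closedPoint K)) h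
  rw [← one_apply (G := G) (𝟙_ (Over (Spec (CommRingCat.of K)))) (IsLocalRing.closedPoint K)]
  exact h2

theorem compactSpace_idObj : CompactSpace ↥(idObj G).left := by
  suffices h : IsCompact (idComp G) by
    refine ⟨(idIncl G).left.isEmbedding.isCompact_iff.mpr ?_⟩
    rwa [Set.image_univ, range_idIncl]
  obtain ⟨U, hU, heU, -⟩ := exists_isAffineOpen_mem_and_subset (X := G.left) (x := unitPt G) (U := ⊤) trivial
  haveI : IsAffine (U : Scheme) := hU
  let O : Set (G ⊗ G).left := (fst G G).left ⁻¹' (U : Set G.left) ∩ (snd G G).left ⁻¹' (U : Set G.left)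
  have hO : IsCompact O := by
    let Uo : Over (Spec (CommRingCat.of K)) := Over.mk (U.ι ≫ G.hom)
    let j : Uo ⟶ G := Over.homMk U.ι rfl
    haveI : CompactSpace ↥(Uo ⊗ Uo).left :=
      inferInstanceAs (CompactSpace ↥(pullback (U.ι ≫ G.hom) (U.ι ≫ G.hom)))
    have hr : O = Set.range (pullback.map (U.ι ≫ G.hom) (U.ι ≫ G.hom) G.hom G.hom U.ι U.ι (𝟙 _) (by simp) (by simp)) := by
      rw [Scheme.Pullback.range_map, Scheme.Opens.range_ι]
      rfl
    rw [hr]
    exact isCompact_range (Scheme.Hom.continuous _)
  refine (hO.image μ[G].left.continuous).of_isClosed_subset isClosed_irreducibleComponent fun z hz => ?_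
  let C := ptObj z ⊗ idObj G
  haveI : IrreducibleSpace C.left := inferInstanceAs (IrreducibleSpace ↥(pullback (ptObj z).hom (idObj G).hom))
  let F₁ : C ⟶ G := snd _ _ ≫ idIncl G
  let F₂ : C ⟶ G := (fst _ _ ≫ ptHom z) * (snd _ _ ≫ idIncl G)⁻¹
  obtain ⟨t⟩ : Nonempty (ptObj z).left := inferInstance
  have hne₁ : (F₁.left ⁻¹' (U : Set G.left)).Nonempty := by
    obtain ⟨z0, hz0⟩ := exists_idObj_point (G := G)
    obtain ⟨q, -, hq⟩ := Scheme.Pullback.exists_preimage_pullback (f := (ptObj z).hom) (g := (idObj G).hom) t z0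
      (Subsingleton.elim _ _)
    refine ⟨q, ?_⟩
    show (idIncl G).left ((snd (ptObj z) (idObj G)).left q) ∈ U
    rw [show (snd (ptObj z) (idObj G)).left q = z0 from hq, hz0]
    exact heU
  have hne₂ : (F₂.left ⁻¹' (U : Set G.left)).Nonempty := by
    obtain ⟨T', a, b, t', -, he⟩ := exists_lift (ptHom z) (idIncl G) t
      ((ptHom_apply z t).symm ▸ (range_idIncl (G := G)).ge hz)
    refine ⟨(lift a b).left t', ?_⟩
    have h1 : lift a b ≫ F₂ = 1 := by
      rw [MonObj.comp_mul, GrpObj.comp_inv, ← Category.assoc, lift_fst, ← Category.assoc, lift_snd, he,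
        mul_inv_cancel]
    show (lift a b ≫ F₂).left t' ∈ U
    rw [h1, one_apply]
    exact heU
  obtain ⟨q, hq₁, hq₂⟩ := nonempty_preirreducible_inter (U.2.preimage F₁.left.continuous)
    (U.2.preimage F₂.left.continuous) hne₁ hne₂
  refine ⟨(lift F₂ F₁).left q, ⟨?_, ?_⟩, ?_⟩
  · show (lift F₂ F₁ ≫ fst _ _).left q ∈ U
    rw [lift_fst]; exact hq₂
  · show (lift F₂ F₁ ≫ snd _ _).left q ∈ U
    rw [lift_snd]; exact hq₁
  · have h2 : lift F₂ F₁ ≫ μ[G] = fst _ _ ≫ ptHom z := by
      rw [← Hom.mul_def]
      exact inv_mul_cancel_right _ _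
    exact (congrArg (fun m : C ⟶ G => m.left q) h2).trans (ptHom_apply z _)

/-- Left multiplication by the component through the unit. -/
abbrev actMap : idObj G ⊗ G ⟶ G := idIncl G ▷ G ≫ μ[G]

/-- Left multiplication by the component through the unit preserves components. -/
theorem actMap_mem (p : (idObj G ⊗ G).left) :
    (actMap (G := G)).left p ∈ irreducibleComponent ((snd (idObj G) G).left p) := by
  let g := (snd (idObj G) G).left p
  haveI := irreducibleSpace_idObj_tensor (G := G) (ptObj g)
  obtain ⟨q, hq⟩ : p ∈ Set.range (idObj G ◁ ptHom g).left := by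
    have hr : p ∈ Set.range (pullback.map (idObj G).hom (ptObj g).hom (idObj G).hom G.hom
        (𝟙 _) (G.left.fromSpecResidueField g) (𝟙 _) (by simp) (by simp)) := by
      rw [Scheme.Pullback.range_map]
      refine ⟨⟨_, rfl⟩, ?_⟩
      rw [Set.mem_preimage, Scheme.range_fromSpecResidueField]
      rfl
    convert! hr using 3
  let A : idObj G ⊗ ptObj g ⟶ G := (fst _ _ ≫ idIncl G) * (snd _ _ ≫ ptHom g)
  have hA : (idObj G ◁ ptHom g) ≫ actMap = A := by
    show _ ≫ idIncl G ▷ G ≫ μ[G] = _
    rw [whiskerRight_mul, MonObj.comp_mul, ← Category.assoc, whiskerLeft_fst, whiskerLeft_snd]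
  have hg : g ∈ Set.range A.left := by
    obtain ⟨z0, hz0⟩ := exists_idObj_point (G := G)
    obtain ⟨t⟩ : Nonempty (ptObj g).left := inferInstance
    obtain ⟨w, hw, -⟩ := Scheme.Pullback.exists_preimage_pullback (f := (idObj G).hom) (g := (ptObj g).hom) z0 t
      (Subsingleton.elim _ _)
    obtain ⟨T', a, t', ht, ha⟩ := exists_eq_one (fst (idObj G) (ptObj g) ≫ idIncl G) w (by
      show (idIncl G).left ((fst (idObj G) (ptObj g)).left w) = _
      rw [show (fst (idObj G) (ptObj g)).left w = z0 from hw, hz0])
    refine ⟨a.left t', ?_⟩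
    have h1 : a ≫ A = (a ≫ snd _ _) ≫ ptHom g := by
      rw [MonObj.comp_mul, ha, _root_.one_mul, Category.assoc]
    exact (congrArg (fun m : T' ⟶ G => m.left t') h1).trans (ptHom_apply g _)
  refine subset_irreducibleComponent (S := Set.range A.left) ?_ hg ?_
  · rw [← Set.image_univ]
    exact (IrreducibleSpace.isIrreducible_univ _).image _ A.left.continuous.continuousOn
  · refine ⟨q, ?_⟩
    rw [← hA, Over.comp_left, Scheme.Hom.comp_apply, hq]

theorem exists_actMap_eq {y ξ : G.left} (h : ξ ⤳ y) :
    ∃ p : (idObj G ⊗ G).left, (actMap (G := G)).left p = y ∧ (snd (idObj G) G).left p = ξ := by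
  let y' := (invM G).left y
  let ψ : ptObj y' ⊗ G ⟶ G := ptHom y' ▷ G ≫ μ[G]
  obtain ⟨t⟩ : Nonempty (ptObj y').left := inferInstance
  haveI : Flat ψ.left := flat_mulMap (ptHom y') inferInstance
  let s : ptObj y' ⟶ ptObj y' ⊗ G := lift (𝟙 _) 1
  have hs : s ≫ ψ = ptHom y' := by
    show s ≫ ptHom y' ▷ G ≫ μ[G] = _
    rw [whiskerRight_mul, MonObj.comp_mul, ← Category.assoc, lift_fst, lift_snd, Category.id_comp]
    exact _root_.mul_one _
  have hsy : ψ.left (s.left t) = y' := (congrArg (fun m : ptObj y' ⟶ G => m.left t) hs).trans (ptHom_apply y' t)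
  obtain ⟨w, hw, hwξ⟩ := Flat.generalizingMap ψ.left (show (invM G).left ξ ⤳ ψ.left (s.left t) by rw [hsy]; exact h.map (invM G).left.continuous)
  have hwe : (snd (ptObj y') G).left w ∈ idComp G := by
    refine mem_idComp_of_specializes ?_
    have h1 : (snd (ptObj y') G).left (s.left t) = unitPt G := by
      rw [← Scheme.Hom.comp_apply, ← Over.comp_left, lift_snd]
      exact one_apply _ t
    exact h1 ▸ hw.map (snd (ptObj y') G).left.continuous
  obtain ⟨q, hq⟩ : w ∈ Set.range (ptObj y' ◁ idIncl G).left := by
    have hr : w ∈ Set.range (pullback.map (ptObj y').hom (idObj G).hom (ptObj y').hom G.hom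
        (𝟙 _) (idIncl G).left (𝟙 _) (by simp) (by simp)) := by
      rw [Scheme.Pullback.range_map, range_idIncl]
      exact ⟨⟨_, rfl⟩, hwe⟩
    convert! hr using 3
  let R : ptObj y' ⊗ idObj G ⟶ G := (fst _ _ ≫ ptHom y') * (snd _ _ ≫ idIncl G)
  have hR : (ptObj y' ◁ idIncl G) ≫ ψ = R := by
    show _ ≫ ptHom y' ▷ G ≫ μ[G] = _
    rw [whiskerRight_mul, MonObj.comp_mul, ← Category.assoc, whiskerLeft_fst, whiskerLeft_snd]
  let Φ : ptObj y' ⊗ idObj G ⟶ idObj G ⊗ G := lift (snd _ _) (R ≫ invM G)
  refine ⟨Φ.left q, ?_, ?_⟩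
  · have h2 : Φ ≫ actMap = fst _ _ ≫ ptHom y' ≫ invM G := by
      show Φ ≫ idIncl G ▷ G ≫ μ[G] = _
      rw [whiskerRight_mul, MonObj.comp_mul, ← Category.assoc, lift_fst, lift_snd, comp_invM, comp_invM,
        GrpObj.comp_inv, mul_inv_rev]
      exact mul_inv_cancel_left _ _
    refine (congrArg (fun m : ptObj y' ⊗ idObj G ⟶ G => m.left q) h2).trans ?_
    show (invM G).left ((ptHom y').left _) = y
    rw [ptHom_apply]
    exact invM_invM y
  · have h3 : (invM G).left ξ = R.left q := by
      rw [← hR, Over.comp_left, Scheme.Hom.comp_apply, hq]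
      exact hwξ.symm
    show (Φ ≫ snd _ _).left q = ξ
    rw [lift_snd, Over.comp_left, Scheme.Hom.comp_apply, ← h3]
    exact invM_invM ξ

variable (G) in
/-- The union of the components meeting a quasi-compact open. -/
def satOpen (V : Set G.left) : Set G.left := (actMap (G := G)).left '' ((snd (idObj G) G).left ⁻¹' V)

theorem mem_satOpen_iff {V : Set G.left} (hV : IsOpen V) (y : G.left) :
    y ∈ satOpen G V ↔ (irreducibleComponent y ∩ V).Nonempty := by
  constructor
  · rintro ⟨p, hp, rfl⟩
    refine ⟨(snd (idObj G) G).left p, ?_, hp⟩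
    rw [← irreducibleComponent_eq_of_mem (actMap_mem p)]
    exact mem_irreducibleComponent
  · rintro ⟨v, hv, hvV⟩
    obtain ⟨ξ, hξ⟩ := QuasiSober.sober (isIrreducible_irreducibleComponent (x := y)) isClosed_irreducibleComponent
    obtain ⟨p, hp, hpξ⟩ := exists_actMap_eq (hξ.specializes (mem_irreducibleComponent (x := y)))
    refine ⟨p, ?_, hp⟩
    show (snd (idObj G) G).left p ∈ V
    rw [hpξ]
    exact (hξ.specializes hv).mem_open hV hvV

theorem isClopen_satOpen {V : Set G.left} (hV : IsOpen V) (hVc : IsCompact V) : IsClopen (satOpen G V) := by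
  have hopen : IsOpen (satOpen G V) :=
    isOpenMap_mulMap (idIncl G) _ (hV.preimage (snd (idObj G) G).left.continuous)
  haveI := compactSpace_idObj (G := G)
  haveI : QuasiCompact (snd (idObj G) G).left :=
    MorphismProperty.of_isPullback (P := @QuasiCompact) isPullback_fst_snd inferInstance
  have hcomp : IsCompact (satOpen G V) :=
    ((snd (idObj G) G).left.isCompact_preimage (U := ⟨V, hV⟩) hVc).image (actMap (G := G)).left.continuous
  refine ⟨?_, hopen⟩
  let W : G.left.Opens := ⟨satOpen G V, hopen⟩
  haveI : CompactSpace W := isCompact_iff_compactSpace.mp hcomp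
  haveI := quasiSeparatedSpace (G := G)
  have hspec : SpecializingMap W.ι := by
    intro a b hb
    have hbW : b ∈ Set.range W.ι := by
      rw [Scheme.Opens.range_ι]
      show b ∈ satOpen G V
      rw [mem_satOpen_iff hV]
      have ha : W.ι a ∈ satOpen G V := by
        have : W.ι a ∈ Set.range W.ι := ⟨a, rfl⟩
        rwa [Scheme.Opens.range_ι] at this
      rw [mem_satOpen_iff hV] at ha
      rwa [← irreducibleComponent_eq_of_mem (x := W.ι a) (y := b)
        (hb.mem_closed isClosed_irreducibleComponent mem_irreducibleComponent)]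
    obtain ⟨b', rfl⟩ := hbW
    exact ⟨b', W.ι.isEmbedding.isInducing.specializes_iff.mp hb, rfl⟩
  have := ((isClosedMap_iff_specializingMap W.ι).mpr hspec).isClosed_range
  rwa [Scheme.Opens.range_ι] at this

/-- The connected component of a point is its irreducible component. -/
theorem connectedComponent_eq (x : G.left) : connectedComponent x = irreducibleComponent x := by
  refine Set.Subset.antisymm (fun y hy => ?_)
    (isIrreducible_irreducibleComponent.isConnected.isPreconnected.subset_connectedComponent mem_irreducibleComponent)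
  by_contra hne
  obtain ⟨ξ, hξ⟩ := QuasiSober.sober (isIrreducible_irreducibleComponent (x := y)) isClosed_irreducibleComponent
  have hξx : ξ ∉ irreducibleComponent x := fun h =>
    hne ((hξ.specializes mem_irreducibleComponent).mem_closed isClosed_irreducibleComponent h)
  obtain ⟨V, hV, hξV, hVsub⟩ := exists_isAffineOpen_mem_and_subset (X := G.left) (x := ξ)
    (U := ⟨(irreducibleComponent x)ᶜ, isClosed_irreducibleComponent.isOpen_compl⟩) hξx
  have hclopen := isClopen_satOpen (V := (V : Set G.left)) V.2 hV.isCompact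
  have hyW : y ∈ satOpen G (V : Set G.left) := (mem_satOpen_iff V.2 y).mpr ⟨ξ, hξ.mem, hξV⟩
  have hxW : x ∈ satOpen G (V : Set G.left) :=
    (isConnected_connectedComponent.isPreconnected.subset_isClopen hclopen ⟨y, hy, hyW⟩) mem_connectedComponent
  obtain ⟨v, hv, hvV⟩ := (mem_satOpen_iff V.2 x).mp hxW
  exact hVsub hvV hv

theorem irreducibleSpace_of_connectedSpace [ConnectedSpace G.left] : IrreducibleSpace G.left := by
  rw [irreducibleSpace_def, Set.top_eq_univ, ← PreconnectedSpace.connectedComponent_eq_univ (unitPt G),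
    connectedComponent_eq]
  exact isIrreducible_irreducibleComponent

theorem compactSpace_of_irreducibleSpace [IrreducibleSpace G.left] : CompactSpace G.left := by
  haveI := compactSpace_idObj (G := G)
  have h : idComp G = Set.univ := Set.eq_univ_of_forall fun z =>
    subset_irreducibleComponent (IrreducibleSpace.isIrreducible_univ _) (Set.mem_univ _) (Set.mem_univ z)
  refine ⟨?_⟩
  rw [← h, ← range_idIncl]
  exact isCompact_range (idIncl G).left.continuous

end Groth.Agent.GrpSchLib
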