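import Mathlib
import Groth.Agent.JacobianLib.Basic
import Groth.Agent.RegLocal.Basic

/-! Smoothness at a rational point: the differentials bound the cotangent space, and regular implies smooth. -/

set_option autoImplicit false
universe u

open IsLocalRing TensorProduct KaehlerDifferential

noncomputable section

namespace Groth.Agent.GrpSchLib.RationalSmooth

variable {k : Type u} [Field k]

section Local

variable {R : Type u} [CommRing R] [IsLocalRing R] [Algebra k R]

/-- At a rational point `a ↦ a - a(x) mod m²` is a derivation. -/
theorem exists_residue_derivation (hk : Function.Surjective (algebraMap k (ResidueField R))) :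
    ∃ δ : Derivation k R (CotangentSpace R),
      ∀ (a : R) (ha : a ∈ maximalIdeal R), δ a = (maximalIdeal R).toCotangent ⟨a, ha⟩ := by
  let b : k ≃+* ResidueField R := RingEquiv.ofBijective _ ⟨(algebraMap k (ResidueField R)).injective, hk⟩
  let ε : R →+* k := b.symm.toRingHom.comp (residue R)
  have hmem : ∀ a, a - algebraMap k R (ε a) ∈ maximalIdeal R := fun a => by
    rw [← residue_eq_zero_iff, map_sub, sub_eq_zero]
    exact (b.apply_symm_apply (residue R a)).symm
  have hεk : ∀ c, ε (algebraMap k R c) = c := fun c => b.symm_apply_apply c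
  have hεm : ∀ a ∈ maximalIdeal R, ε a = 0 := fun a ha => by
    show b.symm (residue R a) = 0
    rw [(residue_eq_zero_iff a).2 ha, map_zero]
  let T := (maximalIdeal R).toCotangent
  let f : R →ₗ[k] CotangentSpace R :=
    { toFun := fun a => T ⟨_, hmem a⟩
      map_add' := fun a b => by
        rw [← map_add]; congr 1; ext
        simp only [map_add, AddMemClass.mk_add_mk]; ring
      map_smul' := fun c a => by
        rw [RingHom.id_apply, ← algebraMap_smul R c (T _), ← map_smul]
        congr 1; ext
        simp only [SetLike.mk_smul_mk, smul_eq_mul, Algebra.smul_def, map_mul, hεk]; ring }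
  refine ⟨Derivation.mk' f fun a b => ?_, fun a ha => ?_⟩
  · show T _ = a • T _ + b • T _
    rw [← map_smul, ← map_smul, ← map_add, Ideal.toCotangent_eq, pow_two]
    refine (Ideal.neg_mem_iff _).1 ?_
    convert Ideal.mul_mem_mul (hmem a) (hmem b) using 1
    simp only [SetLike.mk_smul_mk, AddMemClass.mk_add_mk, smul_eq_mul, map_mul]; ring
  · show T _ = T _
    congr 1; ext
    simp [hεm a ha]

theorem exists_linear_cotangent (hk : Function.Surjective (algebraMap k (ResidueField R))) :
    ∃ l : Ω[R⁄k] →ₗ[R] CotangentSpace R, Function.Surjective l ∧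
      ∀ (a : R) (ha : a ∈ maximalIdeal R), l (D k R a) = (maximalIdeal R).toCotangent ⟨a, ha⟩ := by
  obtain ⟨δ, hδ⟩ := exists_residue_derivation hk
  refine ⟨δ.liftKaehlerDifferential, fun v => ?_, fun a ha => ?_⟩
  · obtain ⟨⟨a, ha⟩, rfl⟩ := (maximalIdeal R).toCotangent_surjective v
    exact ⟨D k R a, (δ.liftKaehlerDifferential_comp_D a).trans (hδ a ha)⟩
  · exact (δ.liftKaehlerDifferential_comp_D a).trans (hδ a ha)

theorem finrank_cotangent_le_of_surjective {M : Type u} [AddCommGroup M] [Module R M] [Module.Free R M]
    [Module.Finite R M] (f : M →ₗ[R] CotangentSpace R) (hf : Function.Surjective f) :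
    Module.finrank (ResidueField R) (CotangentSpace R) ≤ Module.finrank R M := by
  let b := Module.Free.chooseBasis R M
  have hspan : Submodule.span (ResidueField R) (Set.range (f ∘ b)) = ⊤ := by
    refine top_le_iff.1 ((?_ : (⊤ : Submodule R (CotangentSpace R)) ≤
      (Submodule.span (ResidueField R) (Set.range (f ∘ b))).restrictScalars R))
    rw [← LinearMap.range_eq_top.2 hf, ← Submodule.map_top, ← b.span_eq, Submodule.map_span, ← Set.range_comp]
    exact Submodule.span_le_restrictScalars R (ResidueField R) _
  have h := finrank_range_le_card (R := ResidueField R) (f ∘ b)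
  rw [Set.finrank, hspan] at h
  rw [Submodule.topEquiv.finrank_eq] at h
  rwa [Module.finrank_eq_card_chooseBasisIndex R M]

end Local

variable {A : Type u} [CommRing A] [Algebra k A] (p : Ideal A) [p.IsPrime]

theorem spanFinrank_maximalIdeal_le [Module.Free A Ω[A⁄k]] [Module.Finite A Ω[A⁄k]] [IsNoetherianRing A]
    (hk : Function.Surjective (algebraMap k (ResidueField (Localization.AtPrime p)))) :
    (maximalIdeal (Localization.AtPrime p)).spanFinrank ≤ Module.finrank A Ω[A⁄k] := by
  let R := Localization.AtPrime p
  haveI : Algebra.FormallyEtale A R := .of_isLocalization p.primeCompl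
  haveI : IsNoetherianRing R := IsLocalization.isNoetherianRing p.primeCompl R inferInstance
  haveI : Nontrivial A := Ideal.Quotient.mk_surjective.nontrivial (f := Ideal.Quotient.mk p)
  obtain ⟨l, hl, -⟩ := exists_linear_cotangent (R := R) hk
  have h := finrank_cotangent_le_of_surjective
    (l.comp (tensorKaehlerEquivOfFormallyEtale k A R).toLinearMap)
    (hl.comp (tensorKaehlerEquivOfFormallyEtale k A R).surjective)
  rw [Module.finrank_baseChange] at h
  rwa [spanFinrank_maximalIdeal_eq_finrank_cotangentSpace]

theorem formallySmooth_of_isRegular [Algebra.FiniteType k A]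
    (hk : Function.Surjective (algebraMap k (ResidueField (Localization.AtPrime p))))
    [IsRegularLocalRing (Localization.AtPrime p)] :
    Algebra.FormallySmooth k (Localization.AtPrime p) := by
  obtain ⟨n, π, hπ⟩ := Algebra.FiniteType.iff_quotient_mvPolynomial''.1 (inferInstance : Algebra.FiniteType k A)
  let P₀ := MvPolynomial (Fin n) k
  let M : Ideal P₀ := p.comap π.toRingHom
  let P := Localization.AtPrime M
  let S := Localization.AtPrime p
  let φ : P →+* S := Localization.localRingHom M p π.toRingHom rfl
  letI := φ.toAlgebra
  haveI : IsScalarTower k P S := IsScalarTower.of_algebraMap_eq fun c => by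
    rw [IsScalarTower.algebraMap_apply k P₀ P, RingHom.algebraMap_toAlgebra]
    show _ = φ _
    rw [Localization.localRingHom_to_map, IsScalarTower.algebraMap_apply k A S]
    exact congrArg _ (π.commutes c).symm
  have hsurj : Function.Surjective (algebraMap P S) :=
    RingHom.surjective_localRingHom_of_surjective π.toRingHom hπ p
  haveI : Algebra.FormallySmooth P₀ P := .of_isLocalization M.primeCompl
  haveI : Algebra.FormallySmooth k P := .comp k P₀ P
  haveI : IsRegularLocalRing P := IsRegularRing.isRegularLocalRing_localization M
  obtain ⟨d, hd⟩ := RegLocal.exists_nat_ringKrullDim P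
  set I := RingHom.ker (algebraMap P S) with hI
  haveI : IsRegularLocalRing (P ⧸ I) :=
    IsRegularLocalRing.of_ringEquiv (RingHom.quotientKerEquivOfSurjective hsurj).symm
  obtain ⟨x, c, hc, hx, hIx⟩ := RegLocal.exists_generators_of_quot_regular P hd I
  let f : Fin c → P := fun i => x (Fin.castLE hc i)
  haveI : IsLocalHom φ := Localization.isLocalHom_localRingHom M p π.toRingHom rfl
  have hkP : Function.Surjective (algebraMap k (ResidueField P)) := by
    intro y
    obtain ⟨z, rfl⟩ := residue_surjective y
    obtain ⟨c, hc⟩ := hk (residue S (φ z))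
    refine ⟨c, ?_⟩
    rw [IsScalarTower.algebraMap_apply k P (ResidueField P)]
    rw [IsScalarTower.algebraMap_apply k S (ResidueField S)] at hc
    change residue P (algebraMap k P c) = residue P z
    change residue S (algebraMap k S c) = residue S (φ z) at hc
    rw [IsScalarTower.algebraMap_apply k P S, RingHom.algebraMap_toAlgebra, ← sub_eq_zero, ← map_sub, ← map_sub,
      residue_eq_zero_iff] at hc
    rw [← sub_eq_zero, ← map_sub, residue_eq_zero_iff]
    intro hu
    exact hc (hu.map φ)
  obtain ⟨l, -, hlD⟩ := exists_linear_cotangent (R := P) hkP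
  have hxm : ∀ i, x i ∈ maximalIdeal P := fun i => hx ▸ Ideal.subset_span ⟨i, rfl⟩
  let v : Fin d → CotangentSpace P := fun i => (maximalIdeal P).toCotangent ⟨x i, hxm i⟩
  have hli : LinearIndependent (ResidueField P) v := by
    refine linearIndependent_of_top_le_span_of_card_eq_finrank ?_ ?_
    · rintro w -
      obtain ⟨⟨a, ha⟩, rfl⟩ := (maximalIdeal P).toCotangent_surjective w
      have ha' := ha
      rw [← hx, Ideal.mem_span_range_iff_exists_fun] at ha'
      obtain ⟨q, hq⟩ := ha'
      have e : (⟨a, ha⟩ : maximalIdeal P) = ∑ i, q i • ⟨x i, hxm i⟩ := by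
        ext; simp [← hq]
      rw [e, map_sum]
      refine sum_mem fun i _ => ?_
      rw [map_smul, ← algebraMap_smul (ResidueField P) (q i)]
      exact Submodule.smul_mem _ _ (Submodule.subset_span ⟨i, rfl⟩)
    · have h := IsRegularLocalRing.spanFinrank_maximalIdeal (R := P)
      rw [hd, spanFinrank_maximalIdeal_eq_finrank_cotangentSpace] at h
      simpa using (by exact_mod_cast h.symm : d = Module.finrank (ResidueField P) (CotangentSpace P))
  obtain ⟨D', hD'⟩ := JacobianLib.exists_derivations (R := k) (maximalIdeal P) f fun q hq i => by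
    have h0 : l (∑ j, q j • D k P (f j)) = 0 := by
      refine (?_ : (maximalIdeal P) • (⊤ : Submodule P Ω[P⁄k]) ≤ LinearMap.ker l) hq
      refine Submodule.smul_le.2 fun a ha z _ => ?_
      rw [LinearMap.mem_ker, map_smul, ← algebraMap_smul (ResidueField P) a,
        show algebraMap P (ResidueField P) a = 0 from (residue_eq_zero_iff a).2 ha, zero_smul]
    simp only [map_sum, map_smul] at h0
    have h1 : ∑ j, residue P (q j) • v (Fin.castLE hc j) = 0 := by
      rw [← h0]
      exact Finset.sum_congr rfl fun j _ => by rw [hlD _ (hxm _)]; exact algebraMap_smul (ResidueField P) (q j) _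
    exact (residue_eq_zero_iff _).1
      (Fintype.linearIndependent_iff.1 (hli.comp _ (Fin.castLE_injective hc)) _ h1 i)
  refine JacobianLib.formallySmooth_of_minor (R := k) hsurj f hIx (fun j => (D' j).liftKaehlerDifferential) ?_
  simp only [Derivation.liftKaehlerDifferential_comp_D]
  exact notMem_maximalIdeal.1 hD'

end Groth.Agent.GrpSchLib.RationalSmooth
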