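import Mathlib

/-! A group scheme smooth somewhere is smooth. -/

set_option autoImplicit false
universe u

open CategoryTheory AlgebraicGeometry

noncomputable section

namespace Groth.Agent.GrpSchLib

variable {K : Type u} [Field K]

set_option backward.defeqAttrib.useBackward true in
set_option backward.isDefEq.respectTransparency false in
open MonObj MonoidalCategory CartesianMonoidalCategory in
theorem smooth_of_isAlgClosed [IsAlgClosed K] {X : Scheme.{u}} (f : X ⟶ Spec (CommRingCat.of K))
    [LocallyOfFiniteType f] [GrpObj (Over.mk f)] (hne : (f.smoothLocus : Set X).Nonempty) : Smooth f := by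
  have := LocallyOfFiniteType.jacobsonSpace f
  rw [← Scheme.Hom.smoothLocus_eq_top_iff, ← TopologicalSpace.Opens.coe_eq_univ,
    ← not_ne_iff, ← Set.nonempty_compl]
  intro H
  obtain ⟨x, hx, hxc⟩ :=
    nonempty_inter_closedPoints H f.smoothLocus.2.isClosed_compl.isLocallyClosed
  obtain ⟨y, hy : y ∈ f.smoothLocus, hyc⟩ := nonempty_inter_closedPoints
    hne f.smoothLocus.2.isLocallyClosed
  let x' : 𝟙_ _ ⟶ Over.mk f := Over.homMk _ ((pointEquivClosedPoint f).symm ⟨x, hxc⟩).2
  let y' : 𝟙_ _ ⟶ Over.mk f := Over.homMk _ ((pointEquivClosedPoint f).symm ⟨y, hyc⟩).2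
  let α := (GrpObj.mulRight (A := Over.mk f) x').symm ≪≫
    (GrpObj.mulRight (A := Over.mk f) y')
  have hα : x' ≫ α.hom = y' := by
    dsimp only [Iso.trans_hom, Iso.symm_hom, α]
    rw [← Category.assoc, ← Iso.eq_comp_inv]
    simp [comp_lift_assoc]
  have hα' : α.hom.left x = y := by
    simpa [x', y', pointEquivClosedPoint] using congr(($hα).left (IsLocalRing.closedPoint K))
  rw! [← hα', ← α.hom.left.mem_preimage, Scheme.Hom.preimage_smoothLocus_eq,
    show α.hom.left ≫ f = f from α.hom.w] at hy
  exact hx hy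

theorem smoothLocus_nonempty_of_open {X : Scheme.{u}} (f : X ⟶ Spec (CommRingCat.of K)) [LocallyOfFiniteType f]
    (U : X.Opens) (hne : (U : Set X).Nonempty) [Smooth (U.ι ≫ f)] :
    (f.smoothLocus : Set X).Nonempty := by
  obtain ⟨x, hx⟩ := hne
  refine ⟨x, ?_⟩
  have h : (⟨x, hx⟩ : U) ∈ U.ι ⁻¹ᵁ f.smoothLocus := by
    rw [Scheme.Hom.preimage_smoothLocus_eq, Scheme.Hom.smoothLocus_eq_top]
    trivial
  exact h

/-- A group scheme smooth on a nonempty open is smooth. -/
theorem smooth_of_smooth_open (G : Over (Spec (CommRingCat.of K))) [GrpObj G] [LocallyOfFiniteType G.hom]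
    (U : G.left.Opens) (hne : (U : Set G.left).Nonempty) [Smooth (U.ι ≫ G.hom)] : Smooth G.hom := by
  let Ω : Type u := AlgebraicClosure K
  let g : Spec (CommRingCat.of Ω) ⟶ Spec (CommRingCat.of K) := Spec.map (CommRingCat.ofHom <| algebraMap K Ω)
  apply MorphismProperty.of_pullback_snd_of_descendsAlong
    (Q := @Surjective ⊓ @Flat ⊓ @QuasiCompact) (g := g)
  · exact ⟨⟨inferInstance, inferInstance⟩, inferInstance⟩
  · haveI : GrpObj (Over.mk G.hom) := ‹GrpObj G›
    haveI : GrpObj (Over.mk (Limits.pullback.snd G.hom g)) := Over.grpObjMkPullbackSnd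
    refine smooth_of_isAlgClosed _ ?_
    let p := Limits.pullback.fst G.hom g
    let q := Limits.pullback.snd G.hom g
    haveI : Surjective g := inferInstance
    haveI : Surjective p := inferInstanceAs (Surjective (Limits.pullback.fst G.hom g))
    obtain ⟨x, hx⟩ := hne
    obtain ⟨z, hz⟩ := p.surjective x
    haveI : Smooth ((p ⁻¹ᵁ U).ι ≫ q) :=
      MorphismProperty.of_isPullback (P := @Smooth)
        ((isPullback_morphismRestrict p U).paste_vert (IsPullback.of_hasPullback G.hom g)) ‹_›
    exact smoothLocus_nonempty_of_open _ (p ⁻¹ᵁ U) ⟨z, show p z ∈ U from hz ▸ hx⟩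

/-- A reduced group scheme over a perfect field is smooth. -/
theorem smooth_of_isReduced [PerfectField K] (G : Over (Spec (CommRingCat.of K))) [GrpObj G]
    [LocallyOfFiniteType G.hom] [IsReduced G.left] : Smooth G.hom := by
  haveI : Nonempty G.left := ⟨(MonObj.one (X := G)).left (IsLocalRing.closedPoint K)⟩
  haveI : Smooth (G.hom.smoothLocus.ι ≫ G.hom) := by
    rw [← Scheme.Hom.smoothLocus_eq_top_iff, ← Scheme.Hom.preimage_smoothLocus_eq]
    exact Scheme.Opens.ι_preimage_self _
  exact smooth_of_smooth_open G _ G.hom.dense_smoothLocus_of_perfectField.nonempty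

end Groth.Agent.GrpSchLib
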