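import Groth.Agent.GrpSchLib.Dimension
import Groth.Agent.GrpSchLib.RationalSmooth
import Groth.Agent.GrpSchLib.Smooth
import Groth.Agent.GrSegreLib.Dim

/-! Dimension of a group scheme, its tangent space at the unit, and smoothness. -/

set_option autoImplicit false
universe u

open CategoryTheory CategoryTheory.Limits AlgebraicGeometry MonObj MonoidalCategory CartesianMonoidalCategory IsLocalRing

noncomputable section

namespace Groth.Agent.GrpSchLib

theorem le_ringKrullDim_of_isStandardSmooth (k A : Type u) [Field k] [CommRing A] [Nontrivial A] [Algebra k A]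
    [Algebra.IsStandardSmooth k A] :
    (Module.finrank A Ω[A⁄k] : WithBot ℕ∞) ≤ ringKrullDim A := by
  let n := Module.finrank A Ω[A⁄k]
  haveI : Algebra.IsStandardSmoothOfRelativeDimension n k A := by
    rw [Algebra.IsStandardSmoothOfRelativeDimension.iff_of_isStandardSmooth, ← Module.finrank_eq_rank]
  obtain ⟨f, hf⟩ := Algebra.IsStandardSmoothOfRelativeDimension.exists_etale_mvPolynomial (n := n) k A
  have hinj : Function.Injective f := by
    letI := f.toRingHom.toAlgebra
    haveI : Algebra.Etale (MvPolynomial (Fin n) k) A := hf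
    refine (injective_iff_map_eq_zero f).mpr fun q hq => ?_
    by_contra hne
    have hreg : IsSMulRegular A q :=
      Module.Flat.isSMulRegular_of_nonZeroDivisors (mem_nonZeroDivisors_of_ne_zero hne)
    refine one_ne_zero (hreg ?_ : (1 : A) = 0)
    show q • (1 : A) = q • 0
    rw [smul_zero, Algebra.smul_def, _root_.mul_one]
    exact hq
  refine GrSegreLib.le_ringKrullDim_of_algIndep (k := k) (z := fun i => f (MvPolynomial.X i)) ?_
  rw [algebraicIndependent_iff_injective_aeval]
  convert hinj using 2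
  exact MvPolynomial.algHom_ext fun i => by simp

section Section

variable {K : Type u} [Field K] {X : Scheme.{u}} (f : X ⟶ Spec (CommRingCat.of K))
  (σ : Spec (CommRingCat.of K) ⟶ X) (hσ : σ ≫ f = 𝟙 _)

include hσ in
theorem appLE_top_rightInverse {V : X.Opens} (hV : V ≤ f ⁻¹ᵁ ⊤)
    (hη : (⊤ : (Spec (CommRingCat.of K)).Opens) ≤ σ ⁻¹ᵁ V) (c : Γ(Spec (CommRingCat.of K), ⊤)) :
    (σ.appLE V ⊤ hη).hom ((f.appLE ⊤ V hV).hom c) = c := by
  have hid : ∀ (h : Spec (CommRingCat.of K) ⟶ Spec (CommRingCat.of K)) (e), h = 𝟙 _ → h.appLE ⊤ ⊤ e = 𝟙 _ := by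
    rintro _ e rfl; simp [Scheme.Hom.appLE] <;> exact (Spec (CommRingCat.of K)).presheaf.map_id _
  have h := (Scheme.Hom.appLE_comp_appLE σ f ⊤ V ⊤ hV hη).trans (hid _ _ hσ)
  exact congrArg (fun φ => (CommRingCat.Hom.hom φ) c) h

include hσ in
theorem surjective_residue_section {V : X.Opens} (hV : IsAffineOpen V) (he : σ (IsLocalRing.closedPoint K) ∈ V) :
    letI := (f.appLE ⊤ V le_top).hom.toAlgebra
    Function.Surjective (algebraMap Γ(Spec (CommRingCat.of K), ⊤)
      (ResidueField (Localization.AtPrime (hV.primeIdealOf ⟨σ (IsLocalRing.closedPoint K), he⟩).asIdeal))) := by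
  letI := (f.appLE ⊤ V le_top).hom.toAlgebra
  have hK : IsField Γ(Spec (CommRingCat.of K), ⊤) :=
    (Scheme.ΓSpecIso (CommRingCat.of K)).commRingCatIsoToRingEquiv.toMulEquiv.isField (Field.toIsField K)
  letI := hK.toField
  have hη : (⊤ : (Spec (CommRingCat.of K)).Opens) ≤ σ ⁻¹ᵁ V := fun t _ => by
    show σ t ∈ V
    rwa [Subsingleton.elim (α := PrimeSpectrum K) t (IsLocalRing.closedPoint K)]
  set p := (hV.primeIdealOf ⟨σ (IsLocalRing.closedPoint K), he⟩).asIdeal with hp
  let ε := (σ.appLE V ⊤ hη).hom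
  have hε : RingHom.ker ε = p := by
    have h := congrArg PrimeSpectrum.asIdeal (IsAffineOpen.comap_primeIdealOf_appLE (f := σ)
      (x := IsLocalRing.closedPoint K) V hV ⊤ (isAffineOpen_top _) hη trivial)
    have hbot := ((isAffineOpen_top (Spec (CommRingCat.of K))).primeIdealOf
      ⟨IsLocalRing.closedPoint K, trivial⟩).2
    rw [PrimeSpectrum.comap_asIdeal, (eq_bot_or_eq_top _).resolve_right hbot.ne_top,
      ← RingHom.ker_eq_comap_bot] at h
    exact h
  haveI : p.IsMaximal := hε ▸ RingHom.ker_isMaximal_of_surjective ε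
    fun c => ⟨_, appLE_top_rightInverse f σ hσ le_top hη c⟩
  intro y
  obtain ⟨y', rfl⟩ := (Ideal.bijective_algebraMap_quotient_residueField p).2 y
  obtain ⟨a, rfl⟩ := Ideal.Quotient.mk_surjective y'
  refine ⟨ε a, ?_⟩
  rw [← Ideal.Quotient.algebraMap_eq, ← IsScalarTower.algebraMap_apply,
    IsScalarTower.algebraMap_apply Γ(Spec (CommRingCat.of K), ⊤) Γ(X, V), ← sub_eq_zero, ← map_sub,
    Ideal.algebraMap_residueField_eq_zero]
  refine hε.le ?_
  rw [RingHom.mem_ker, map_sub, sub_eq_zero]
  exact appLE_top_rightInverse f σ hσ le_top hη (ε a)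

end Section

variable {K : Type u} [Field K] (G : Over (Spec (CommRingCat.of K))) [GrpObj G] [LocallyOfFiniteType G.hom]

theorem dim_le_spanFinrank :
    topologicalKrullDim G.left ≤ ((maximalIdeal (G.left.presheaf.stalk (unitPt G))).spanFinrank : ℕ∞) := by
  haveI : IsLocallyNoetherian G.left := LocallyOfFiniteType.isLocallyNoetherian G.hom
  rw [← ringKrullDim_stalk_eq_topologicalKrullDim G _ isClosed_unitPt]
  exact ringKrullDim_le_spanFinrank_maximalIdeal _

theorem dim_eq_of_smooth [Smooth G.hom] :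
    topologicalKrullDim G.left = ((maximalIdeal (G.left.presheaf.stalk (unitPt G))).spanFinrank : ℕ∞) := by
  refine (dim_le_spanFinrank G).antisymm ?_
  obtain ⟨U, hU, V, hV, he, hVU, hstd⟩ := Smooth.exists_isStandardSmooth G.hom (unitPt G)
  obtain rfl : U = ⊤ := top_le_iff.1 fun t _ => by
    rw [Subsingleton.elim (α := PrimeSpectrum K) t (G.hom (unitPt G))]
    exact hVU he
  have hK : IsField Γ(Spec (CommRingCat.of K), ⊤) :=
    (Scheme.ΓSpecIso (CommRingCat.of K)).commRingCatIsoToRingEquiv.toMulEquiv.isField (Field.toIsField K)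
  letI := hK.toField
  letI := (G.hom.appLE ⊤ V le_top).hom.toAlgebra
  haveI : Algebra.IsStandardSmooth Γ(Spec (CommRingCat.of K), ⊤) Γ(G.left, V) := hstd
  haveI : IsLocallyNoetherian G.left := LocallyOfFiniteType.isLocallyNoetherian G.hom
  haveI : IsNoetherianRing Γ(G.left, V) := IsLocallyNoetherian.component_noetherian ⟨V, hV⟩
  set p := (hV.primeIdealOf ⟨unitPt G, he⟩).asIdeal with hp
  haveI : Nontrivial Γ(G.left, V) := Ideal.Quotient.mk_surjective.nontrivial (f := Ideal.Quotient.mk p)
  letI := G.left.presheaf.algebra_section_stalk ⟨unitPt G, he⟩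
  haveI := hV.isLocalization_stalk ⟨unitPt G, he⟩
  let φ := (IsLocalization.algEquiv p.primeCompl (Localization.AtPrime p) (G.left.presheaf.stalk (unitPt G))).toRingEquiv
  have h1 := RationalSmooth.spanFinrank_maximalIdeal_le (k := Γ(Spec (CommRingCat.of K), ⊤)) p
    (surjective_residue_section G.hom η[G].left (Over.w η[G]) hV he)
  rw [← map_ringEquiv_maximalIdeal φ, Ideal.spanFinrank_map_eq_of_ringEquiv]
  refine le_trans ?_ (le_trans (le_ringKrullDim_of_isStandardSmooth Γ(Spec (CommRingCat.of K), ⊤) Γ(G.left, V)) ?_)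
  · exact_mod_cast h1
  · rw [← PrimeSpectrum.topologicalKrullDim_eq_ringKrullDim]
    exact hV.fromSpec.isOpenEmbedding.isInducing.topologicalKrullDim_le

theorem smooth_of_dim_eq
    (h : topologicalKrullDim G.left = ((maximalIdeal (G.left.presheaf.stalk (unitPt G))).spanFinrank : ℕ∞)) :
    Smooth G.hom := by
  haveI : IsLocallyNoetherian G.left := LocallyOfFiniteType.isLocallyNoetherian G.hom
  rw [← ringKrullDim_stalk_eq_topologicalKrullDim G _ isClosed_unitPt] at h
  haveI : IsRegularLocalRing (G.left.presheaf.stalk (unitPt G)) := (isRegularLocalRing_iff _).2 h.symm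
  obtain ⟨V, hV, he, -⟩ := exists_isAffineOpen_mem_and_subset (X := G.left) (x := unitPt G) (U := ⊤) trivial
  have hK : IsField Γ(Spec (CommRingCat.of K), ⊤) :=
    (Scheme.ΓSpecIso (CommRingCat.of K)).commRingCatIsoToRingEquiv.toMulEquiv.isField (Field.toIsField K)
  letI := hK.toField
  letI := (G.hom.appLE ⊤ V le_top).hom.toAlgebra
  haveI : Algebra.FiniteType Γ(Spec (CommRingCat.of K), ⊤) Γ(G.left, V) :=
    G.hom.finiteType_appLE (isAffineOpen_top _) hV le_top
  set p := (hV.primeIdealOf ⟨unitPt G, he⟩).asIdeal with hp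
  letI := G.left.presheaf.algebra_section_stalk ⟨unitPt G, he⟩
  haveI := hV.isLocalization_stalk ⟨unitPt G, he⟩
  let φ := (IsLocalization.algEquiv p.primeCompl (Localization.AtPrime p) (G.left.presheaf.stalk (unitPt G))).toRingEquiv
  haveI : IsRegularLocalRing (Localization.AtPrime p) := IsRegularLocalRing.of_ringEquiv φ.symm
  have hsm : unitPt G ∈ G.hom.smoothLocus :=
    (formallySmooth_stalkMap_iff ⊤ (isAffineOpen_top _) V hV le_top he).2
      (RationalSmooth.formallySmooth_of_isRegular p (surjective_residue_section G.hom η[G].left (Over.w η[G]) hV he))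
  haveI : Smooth (G.hom.smoothLocus.ι ≫ G.hom) := by
    rw [← Scheme.Hom.smoothLocus_eq_top_iff, ← Scheme.Hom.preimage_smoothLocus_eq]
    exact Scheme.Opens.ι_preimage_self _
  exact smooth_of_smooth_open G G.hom.smoothLocus ⟨_, hsm⟩

end Groth.Agent.GrpSchLib
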