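import Groth.Agent.GrpSchLib.Component

/-! Immersive homomorphisms of group schemes over a field are closed. -/

set_option autoImplicit false
universe u

open CategoryTheory MonoidalCategory CartesianMonoidalCategory MonObj AlgebraicGeometry Limits

noncomputable section

namespace Groth.Agent.GrpSchLib

variable {K : Type u} [Field K] {G : Over (Spec (CommRingCat.of K))}

theorem mem_closure_fst_preimage {A : Set G.left} (T : Over (Spec (CommRingCat.of K))) (q : (G ⊗ T).left)
    (h : (fst G T).left q ∈ closure A) : q ∈ closure ((fst G T).left ⁻¹' A) := by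
  haveI : UniversallyOpen (fst G T).left :=
    MorphismProperty.of_isPullback (P := @UniversallyOpen) isPullback_fst_snd.flip inferInstance
  rw [← (fst G T).left.isOpenMap.preimage_closure_eq_closure_preimage (fst G T).left.continuous]
  exact h

theorem mem_closure_snd_preimage {A : Set G.left} (T : Over (Spec (CommRingCat.of K))) (q : (T ⊗ G).left)
    (h : (snd T G).left q ∈ closure A) : q ∈ closure ((snd T G).left ⁻¹' A) := by
  haveI : UniversallyOpen (snd T G).left :=
    MorphismProperty.of_isPullback (P := @UniversallyOpen) isPullback_fst_snd inferInstance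
  rw [← (snd T G).left.isOpenMap.preimage_closure_eq_closure_preimage (snd T G).left.continuous]
  exact h

variable [GrpObj G] {H : Over (Spec (CommRingCat.of K))} [GrpObj H] (i : H ⟶ G) [IsMonHom i]

theorem mul_mem_range {T : Over (Spec (CommRingCat.of K))} (u v : T ⟶ G) (t : T.left)
    (hu : u.left t ∈ Set.range i.left) (hv : v.left t ∈ Set.range i.left) :
    (u * v).left t ∈ Set.range i.left := by
  obtain ⟨T₁, a₁, b₁, t₁, ht₁, he₁⟩ := exists_lift u i t hu
  obtain ⟨T₂, a₂, b₂, t₂, ht₂, he₂⟩ := exists_lift (a₁ ≫ v) i t₁ (by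
    rw [Over.comp_left, Scheme.Hom.comp_apply, ht₁]; exact hv)
  refine ⟨((a₂ ≫ b₁) * b₂).left t₂, ?_⟩
  have h : a₂ ≫ a₁ ≫ (u * v) = ((a₂ ≫ b₁) * b₂) ≫ i := by
    rw [MonObj.mul_comp, MonObj.comp_mul, MonObj.comp_mul, he₁, he₂, Category.assoc]
  rw [← Scheme.Hom.comp_apply, ← Over.comp_left, ← h, Over.comp_left, Scheme.Hom.comp_apply, ht₂,
    Over.comp_left, Scheme.Hom.comp_apply, ht₁]

theorem inv_mem_range {T : Over (Spec (CommRingCat.of K))} (u : T ⟶ G) (t : T.left)
    (hu : u.left t ∈ Set.range i.left) : u⁻¹.left t ∈ Set.range i.left := by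
  obtain ⟨T₁, a₁, b₁, t₁, ht₁, he₁⟩ := exists_lift u i t hu
  refine ⟨b₁⁻¹.left t₁, ?_⟩
  have h : a₁ ≫ u⁻¹ = b₁⁻¹ ≫ i := by rw [GrpObj.inv_comp, GrpObj.comp_inv, he₁]
  rw [← Scheme.Hom.comp_apply, ← Over.comp_left, ← h, Over.comp_left, Scheme.Hom.comp_apply, ht₁]

theorem mul_mem_closure {T : Over (Spec (CommRingCat.of K))} (u v : T ⟶ G) (t : T.left)
    (hu : u.left t ∈ closure (Set.range i.left)) (hv : v.left t ∈ closure (Set.range i.left)) :
    (u * v).left t ∈ closure (Set.range i.left) := by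
  let A := Set.range i.left
  let S : Set (G ⊗ G).left := (fst G G).left ⁻¹' A ∩ (snd G G).left ⁻¹' A
  let S' : Set (G ⊗ G).left := (fst G G).left ⁻¹' A ∩ (snd G G).left ⁻¹' closure A
  have h1 : S' ⊆ closure S := by
    rintro r ⟨hrA, hrZ⟩
    obtain ⟨T₁, a, b, t₁, ht₁, he⟩ := exists_lift (fst G G) (ptHom ((fst G G).left r)) r
      ⟨(Classical.arbitrary _), ptHom_apply _ _⟩
    let Ψ : ptObj ((fst G G).left r) ⊗ G ⟶ G ⊗ G := ptHom _ ▷ G
    let q := (lift b (a ≫ snd G G)).left t₁
    have hq : Ψ.left q = r := by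
      have h : lift b (a ≫ snd G G) ≫ Ψ = a := by
        refine CartesianMonoidalCategory.hom_ext _ _ ?_ ?_
        · rw [Category.assoc, whiskerRight_fst, ← Category.assoc, lift_fst, he]
        · rw [Category.assoc, whiskerRight_snd, lift_snd]
      rw [← Scheme.Hom.comp_apply, ← Over.comp_left, h, ht₁]
    have hqs : (snd (ptObj ((fst G G).left r)) G).left q ∈ closure A := by
      rw [← Scheme.Hom.comp_apply, ← Over.comp_left, lift_snd, Over.comp_left, Scheme.Hom.comp_apply, ht₁]
      exact hrZ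
    have := image_closure_subset_closure_image Ψ.left.continuous ⟨q, mem_closure_snd_preimage _ q hqs, rfl⟩
    rw [hq] at this
    refine closure_mono ?_ this
    rintro _ ⟨q', hq', rfl⟩
    refine ⟨?_, ?_⟩
    · show (Ψ ≫ fst G G).left q' ∈ A
      rw [whiskerRight_fst, Over.comp_left, Scheme.Hom.comp_apply, ptHom_apply]
      exact hrA
    · show (Ψ ≫ snd G G).left q' ∈ A
      rw [whiskerRight_snd]
      exact hq'
  have h2 : (lift u v).left t ∈ closure S' := by
    obtain ⟨T₁, a, b, t₁, ht₁, he⟩ := exists_lift v (ptHom (v.left t)) t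
      ⟨(Classical.arbitrary _), ptHom_apply _ _⟩
    let Ψ : G ⊗ ptObj (v.left t) ⟶ G ⊗ G := G ◁ ptHom _
    let q := (lift (a ≫ u) b).left t₁
    have hq : Ψ.left q = (lift u v).left t := by
      have h : lift (a ≫ u) b ≫ Ψ = a ≫ lift u v := by
        refine CartesianMonoidalCategory.hom_ext _ _ ?_ ?_
        · rw [Category.assoc, whiskerLeft_fst, lift_fst, Category.assoc, lift_fst]
        · rw [Category.assoc, whiskerLeft_snd, ← Category.assoc, lift_snd, Category.assoc, lift_snd, he]
      rw [← Scheme.Hom.comp_apply, ← Over.comp_left, h, Over.comp_left, Scheme.Hom.comp_apply, ht₁]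
    have hqf : (fst G (ptObj (v.left t))).left q ∈ closure A := by
      rw [← Scheme.Hom.comp_apply, ← Over.comp_left, lift_fst, Over.comp_left, Scheme.Hom.comp_apply, ht₁]
      exact hu
    have := image_closure_subset_closure_image Ψ.left.continuous ⟨q, mem_closure_fst_preimage _ q hqf, rfl⟩
    rw [hq] at this
    refine closure_mono ?_ this
    rintro _ ⟨q', hq', rfl⟩
    refine ⟨?_, ?_⟩
    · show (Ψ ≫ fst G G).left q' ∈ A
      rw [whiskerLeft_fst]
      exact hq'
    · show (Ψ ≫ snd G G).left q' ∈ closure A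
      rw [whiskerLeft_snd, Over.comp_left, Scheme.Hom.comp_apply, ptHom_apply]
      exact hv
  have h3 : (lift u v).left t ∈ closure S := closure_minimal h1 isClosed_closure h2
  have h4 : μ[G].left '' S ⊆ A := by
    rintro _ ⟨r, ⟨hr1, hr2⟩, rfl⟩
    have h := mul_mem_range i (fst G G) (snd G G) r hr1 hr2
    rwa [Hom.mul_def, lift_fst_snd, Category.id_comp] at h
  have h5 := closure_mono h4 (image_closure_subset_closure_image μ[G].left.continuous ⟨_, h3, rfl⟩)
  rw [Hom.mul_def, Over.comp_left, Scheme.Hom.comp_apply]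
  exact h5

theorem inv_mem_closure {T : Over (Spec (CommRingCat.of K))} (u : T ⟶ G) (t : T.left)
    (hu : u.left t ∈ closure (Set.range i.left)) : u⁻¹.left t ∈ closure (Set.range i.left) := by
  rw [← comp_invM, Over.comp_left, Scheme.Hom.comp_apply]
  refine closure_mono ?_ (image_closure_subset_closure_image (invM G).left.continuous ⟨_, hu, rfl⟩)
  rintro _ ⟨_, ⟨h, rfl⟩, rfl⟩
  have h1 := inv_mem_range i i h ⟨h, rfl⟩
  rwa [← comp_invM, Over.comp_left, Scheme.Hom.comp_apply] at h1

theorem isClosed_range_of_isImmersion [IsImmersion i.left] : IsClosed (Set.range i.left) := by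
  refine isClosed_of_closure_subset fun z hz => ?_
  let A := Set.range i.left
  obtain ⟨W, C, hW, hC, hA⟩ := i.left.isLocallyClosed_range
  have hWZ : W ∩ closure A ⊆ A := by
    rintro x ⟨hxW, hxZ⟩
    have : closure A ⊆ C := closure_minimal (hA.le.trans Set.inter_subset_right) hC
    exact hA.ge ⟨hxW, this hxZ⟩
  let T := ptObj z ⊗ G
  let g : T ⟶ G := snd _ _
  let F : T ⟶ G := (fst _ _ ≫ ptHom z) * g⁻¹
  obtain ⟨t⟩ : Nonempty (ptObj z).left := inferInstance
  let d : ptObj z ⟶ T := lift (𝟙 _) (ptHom z)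
  have hd : d ≫ F = 1 := by
    rw [MonObj.comp_mul, GrpObj.comp_inv, ← Category.assoc, lift_fst, lift_snd, Category.id_comp, mul_inv_cancel]
  have he : unitPt G ∈ A := ⟨(1 : ptObj z ⟶ H).left t, by
    rw [← Scheme.Hom.comp_apply, ← Over.comp_left, MonObj.one_comp]
    exact one_apply _ t⟩
  have hFd : F.left (d.left t) ∈ W := by
    rw [← Scheme.Hom.comp_apply, ← Over.comp_left, hd, one_apply]
    exact (hA.le he).1
  have hgd : g.left (d.left t) ∈ closure A := by
    rw [← Scheme.Hom.comp_apply, ← Over.comp_left, lift_snd, ptHom_apply]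
    exact hz
  obtain ⟨w, hwW, hwA⟩ := mem_closure_iff.mp (mem_closure_snd_preimage (ptObj z) (d.left t) hgd)
    (F.left ⁻¹' W) (hW.preimage F.left.continuous) hFd
  have hw1 : (fst (ptObj z) G ≫ ptHom z).left w = z := ptHom_apply z _
  have hFA : F.left w ∈ A := hWZ ⟨hwW, mul_mem_closure i _ _ w (hw1.symm ▸ hz)
    (inv_mem_closure i g w (subset_closure hwA))⟩
  have h := mul_mem_range i F g w hFA hwA
  rw [show F * g = fst (ptObj z) G ≫ ptHom z from inv_mul_cancel_right _ _, hw1] at h
  exact h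

end Groth.Agent.GrpSchLib
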