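import Mathlib

/-! Restriction of a closed subscheme of `X × Y` along `Y`: the largest closed `Z ⊆ X` with `Z × Y` inside it. -/

set_option autoImplicit false
universe u

open CategoryTheory CategoryTheory.Limits AlgebraicGeometry TensorProduct

noncomputable section

namespace Groth.Agent.GrpSchLib.ClosedRestriction

/-- Factoring through a monomorphism is local on the source. -/
theorem factors_of_cover {E P T : Scheme.{u}} (j : E ⟶ P) [Mono j] (g : T ⟶ P) (𝒰 : T.OpenCover)
    (h : ∀ i, ∃ e : 𝒰.X i ⟶ E, e ≫ j = 𝒰.f i ≫ g) : ∃ e : T ⟶ E, e ≫ j = g := by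
  choose e he using h
  refine ⟨𝒰.glueMorphisms e fun a b => ?_, 𝒰.hom_ext _ _ fun i => ?_⟩
  · rw [← cancel_mono j, Category.assoc, Category.assoc, he, he, pullback.condition_assoc]
  · rw [Scheme.Cover.ι_glueMorphisms_assoc, he]

/-- A closed immersion is cut out by an ideal on every affine chart. -/
theorem exists_chartIdeal {E P : Scheme.{u}} (j : E ⟶ P) [IsClosedImmersion j] {Q : CommRingCat.{u}}
    (o : Spec Q ⟶ P) : ∃ J : Ideal Q, ∀ (C : CommRingCat.{u}) (h : Q ⟶ C),
      (∃ e : Spec C ⟶ E, e ≫ j = Spec.map h ≫ o) ↔ J ≤ RingHom.ker h.hom := by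
  obtain ⟨J, φ, hφ⟩ := IsClosedImmersion.Spec_iff.1 (inferInstance : IsClosedImmersion (pullback.snd j o))
  refine ⟨J, fun C h => ⟨?_, fun hle => ?_⟩⟩
  · rintro ⟨e, he⟩
    let l := pullback.lift e (Spec.map h) he
    have h1 : (l ≫ φ.hom) ≫ Spec.map (CommRingCat.ofHom (Ideal.Quotient.mk J)) = Spec.map h := by
      rw [Category.assoc, ← hφ, pullback.lift_snd]
    rw [← Spec.map_preimage (l ≫ φ.hom), ← Spec.map_comp, Spec.map_inj] at h1
    rw [← h1]
    intro a ha
    simp [Ideal.Quotient.eq_zero_iff_mem.2 ha]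
  · let h' : CommRingCat.of (Q ⧸ J) ⟶ C :=
      CommRingCat.ofHom (Ideal.Quotient.lift J h.hom fun a ha => hle ha)
    refine ⟨Spec.map h' ≫ φ.inv ≫ pullback.fst j o, ?_⟩
    have h2 : CommRingCat.ofHom (Ideal.Quotient.mk J) ≫ h' = h := by
      ext a; rfl
    rw [Category.assoc, Category.assoc, pullback.condition, hφ, Category.assoc, Iso.inv_hom_id_assoc, ← Spec.map_comp_assoc, h2]

section Coeff

variable {k R B : Type u} [Field k] [CommRing R] [CommRing B] [Algebra k R] [Algebra k B]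

/-- Apply a functional to the second factor. -/
def slice (φ : Module.Dual k B) : R ⊗[k] B →ₗ[k] R :=
  (TensorProduct.rid k R).toLinearMap ∘ₗ φ.lTensor R

theorem slice_map {C : Type u} [CommRing C] [Algebra k C] (f : R →ₐ[k] C) (φ : Module.Dual k B) (z : R ⊗[k] B) :
    slice φ (Algebra.TensorProduct.map f (AlgHom.id k B) z) = f (slice φ z) := by
  induction z with
  | zero => simp
  | tmul r b => simp [slice]
  | add x y hx hy => simp only [map_add, hx, hy]

theorem eq_zero_of_slice {C : Type u} [CommRing C] [Algebra k C] (z : C ⊗[k] B) (h : ∀ φ, slice φ z = 0) : z = 0 := by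
  classical
  let b := Module.Basis.ofVectorSpace k B
  have key : ∀ (w : C ⊗[k] B) i,
      TensorProduct.finsuppScalarRight k k C _ (b.repr.toLinearMap.lTensor C w) i = slice (b.coord i) w := by
    intro w i
    induction w with
    | zero => simp
    | tmul c y => simp [slice, TensorProduct.finsuppScalarRight_apply_tmul_apply]
    | add x y hx hy => simp only [map_add, Finsupp.add_apply, hx, hy]
  have h0 : TensorProduct.finsuppScalarRight k k C _ (b.repr.toLinearMap.lTensor C z) = 0 :=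
    Finsupp.ext fun i => by rw [key, h, Finsupp.zero_apply]
  rw [LinearEquiv.map_eq_zero_iff] at h0
  exact (LinearEquiv.lTensor C b.repr).map_eq_zero_iff.1 h0

end Coeff

variable {k : Type u} [Field k] {X Y E : Scheme.{u}} (x : X ⟶ Spec (CommRingCat.of k)) (y : Y ⟶ Spec (CommRingCat.of k))
  (j : E ⟶ pullback x y) [IsClosedImmersion j]

/-- The base change of `g` to `T × Y → X × Y`. -/
def prodMap {T : Scheme.{u}} (g : T ⟶ X) : pullback (g ≫ x) y ⟶ pullback x y :=
  pullback.lift (pullback.fst _ _ ≫ g) (pullback.snd _ _) (by rw [Category.assoc, pullback.condition])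

@[reassoc (attr := simp)]
theorem prodMap_fst {T : Scheme.{u}} (g : T ⟶ X) :
    prodMap x y g ≫ pullback.fst x y = pullback.fst (g ≫ x) y ≫ g := pullback.lift_fst _ _ _

@[reassoc (attr := simp)]
theorem prodMap_snd {T : Scheme.{u}} (g : T ⟶ X) :
    prodMap x y g ≫ pullback.snd x y = pullback.snd (g ≫ x) y := pullback.lift_snd _ _ _

/-- `g × Y` lands in the closed subscheme. -/
def Good {T : Scheme.{u}} (g : T ⟶ X) : Prop := ∃ e : pullback (g ≫ x) y ⟶ E, e ≫ j = prodMap x y g

theorem good_comp {T T' : Scheme.{u}} (h : T' ⟶ T) (g : T ⟶ X) (hg : Good x y j g) : Good x y j (h ≫ g) := by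
  obtain ⟨e, he⟩ := hg
  refine ⟨pullback.lift (pullback.fst ((h ≫ g) ≫ x) y ≫ h) (pullback.snd _ _)
      (by rw [← pullback.condition]; simp only [Category.assoc]) ≫ e,
    (Category.assoc _ _ _).trans ((congrArg (_ ≫ ·) he).trans ?_)⟩
  apply pullback.hom_ext
  · exact ((Category.assoc _ _ _).trans (congrArg (_ ≫ ·) (prodMap_fst x y g))).trans
      (((pullback.lift_fst_assoc _ _ _ g).trans (Category.assoc _ _ _)).trans (prodMap_fst x y (h ≫ g)).symm)
  · exact ((Category.assoc _ _ _).trans (congrArg (_ ≫ ·) (prodMap_snd x y g))).trans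
      ((pullback.lift_snd _ _ _).trans (prodMap_snd x y (h ≫ g)).symm)

theorem good_of_cover {T : Scheme.{u}} (g : T ⟶ X) (𝒰 : T.OpenCover) (h : ∀ i, Good x y j (𝒰.f i ≫ g)) :
    Good x y j g := by
  refine factors_of_cover j _ (𝒰.pullback₁ (pullback.fst (g ≫ x) y)) fun i => ?_
  obtain ⟨e, he⟩ := h i
  show ∃ e' : pullback (pullback.fst (g ≫ x) y) (𝒰.f i) ⟶ E, e' ≫ j = pullback.fst _ _ ≫ prodMap x y g
  let a : pullback (pullback.fst (g ≫ x) y) (𝒰.f i) ⟶ pullback ((𝒰.f i ≫ g) ≫ x) y :=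
    pullback.lift (pullback.snd (pullback.fst (g ≫ x) y) (𝒰.f i))
      (pullback.fst (pullback.fst (g ≫ x) y) (𝒰.f i) ≫ pullback.snd (g ≫ x) y) (by
        simp only [Category.assoc]
        rw [← pullback.condition (f := g ≫ x) (g := y),
          pullback.condition_assoc (f := pullback.fst (g ≫ x) y) (g := 𝒰.f i)])
  refine ⟨a ≫ e, ?_⟩
  rw [Category.assoc, he]
  apply pullback.hom_ext
  · simp [a, pullback.condition_assoc]
    exact pullback.lift_fst_assoc _ _ _ _
  · simp [a]
    exact pullback.lift_snd _ _ _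

/-- On an affine open of `X` the condition is cut out by an ideal. -/
theorem exists_affineIdeal (V : X.affineOpens) : ∃ I : Ideal Γ(X, V), ∀ (C : CommRingCat.{u}) (h : Γ(X, V) ⟶ C),
    Good x y j (Spec.map h ≫ V.2.fromSpec) ↔ I ≤ RingHom.ker h.hom := by
  letI : Algebra k Γ(X, V) := (Spec.preimage (V.2.fromSpec ≫ x)).hom.toAlgebra
  letI : ∀ W : Y.affineOpens, Algebra k Γ(Y, W) := fun W => (Spec.preimage (W.2.fromSpec ≫ y)).hom.toAlgebra
  have hx : Spec.map (CommRingCat.ofHom (algebraMap k Γ(X, V))) = V.2.fromSpec ≫ x := Spec.map_preimage _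
  have hy : ∀ W : Y.affineOpens, Spec.map (CommRingCat.ofHom (algebraMap k Γ(Y, W))) = W.2.fromSpec ≫ y :=
    fun W => Spec.map_preimage _
  let o : ∀ W : Y.affineOpens, Spec (CommRingCat.of (Γ(X, V) ⊗[k] Γ(Y, W))) ⟶ pullback x y := fun W =>
    (pullbackSpecIso k Γ(X, V) Γ(Y, W)).inv ≫ pullback.map _ _ x y V.2.fromSpec W.2.fromSpec (𝟙 _)
      (by rw [Category.comp_id, hx]) (by rw [Category.comp_id, hy])
  choose J hJ using fun W => exists_chartIdeal j (o W)
  refine ⟨⨆ (W : Y.affineOpens) (φ : Module.Dual k Γ(Y, W)), Ideal.span (slice φ '' (J W : Set _)), fun C h => ?_⟩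
  letI : Algebra k C := (h.hom.comp (algebraMap k Γ(X, V))).toAlgebra
  let hA : Γ(X, V) →ₐ[k] C := { h.hom with commutes' := fun _ => rfl }
  have hh : CommRingCat.ofHom hA.toRingHom = h := rfl
  have hc : Spec.map (CommRingCat.ofHom (algebraMap k C)) = (Spec.map h ≫ V.2.fromSpec) ≫ x := by
    rw [Category.assoc, ← hx, ← Spec.map_comp]; rfl
  have step : Good x y j (Spec.map h ≫ V.2.fromSpec) ↔
      ∀ W, J W ≤ RingHom.ker (Algebra.TensorProduct.map hA (AlgHom.id k Γ(Y, W))).toRingHom := by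
    let q := fun W : Y.affineOpens => CommRingCat.ofHom (Algebra.TensorProduct.map hA (AlgHom.id k Γ(Y, W))).toRingHom
    let oC : ∀ W : Y.affineOpens, Spec (CommRingCat.of (C ⊗[k] Γ(Y, W))) ⟶
        pullback ((Spec.map h ≫ V.2.fromSpec) ≫ x) y := fun W =>
      (pullbackSpecIso k C Γ(Y, W)).inv ≫ pullback.map _ _ _ y (𝟙 _) W.2.fromSpec (𝟙 _)
        (by rw [Category.comp_id, Category.id_comp, hc]) (by rw [Category.comp_id, hy])
    have hcompat : ∀ W, oC W ≫ prodMap x y (Spec.map h ≫ V.2.fromSpec) = Spec.map (q W) ≫ o W := by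
      intro W
      apply pullback.hom_ext
      · simp only [oC, o, prodMap, Category.assoc, pullback.lift_fst, pullback.lift_fst_assoc]
        rw [pullbackSpecIso_inv_fst_assoc, pullbackSpecIso_inv_fst_assoc, Category.id_comp, ← Spec.map_comp_assoc,
          ← Spec.map_comp_assoc]
        congr 2
      · simp only [oC, o, prodMap, Category.assoc, pullback.lift_snd, pullback.lift_snd_assoc, Category.comp_id]
        rw [pullbackSpecIso_inv_snd_assoc, pullbackSpecIso_inv_snd_assoc, ← Spec.map_comp_assoc]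
        congr 2
        ext r
        simp [q]
    constructor
    · rintro ⟨e, he⟩ W
      exact (hJ W _ (q W)).1 ⟨oC W ≫ e, by rw [Category.assoc, he, hcompat]⟩
    · intro hle
      let 𝒰 := Scheme.Pullback.openCoverOfRight (Y.openCoverOfIsOpenCover _ (iSup_affineOpens_eq_top Y))
        ((Spec.map h ≫ V.2.fromSpec) ≫ x) y
      refine factors_of_cover j _ 𝒰 fun (W : Y.affineOpens) => ?_
      obtain ⟨e, he⟩ := (hJ W _ (q W)).2 (hle W)
      show ∃ e' : pullback ((Spec.map h ≫ V.2.fromSpec) ≫ x) (W.1.ι ≫ y) ⟶ E, e' ≫ j =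
        pullback.map _ _ _ _ (𝟙 _) W.1.ι (𝟙 _) (by simp) (by simp) ≫ prodMap x y (Spec.map h ≫ V.2.fromSpec)
      let iso : pullback ((Spec.map h ≫ V.2.fromSpec) ≫ x) (W.1.ι ≫ y) ⟶ Spec (CommRingCat.of (C ⊗[k] Γ(Y, W))) :=
        pullback.map _ _ (Spec.map (CommRingCat.ofHom (algebraMap k C)))
          (Spec.map (CommRingCat.ofHom (algebraMap k Γ(Y, W)))) (𝟙 _) W.2.isoSpec.hom (𝟙 _)
          (by rw [Category.comp_id, Category.id_comp, hc])
          (by
            rw [Category.comp_id, hy, ← Category.assoc]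
            exact congrArg (· ≫ y) (IsAffineOpen.isoSpec_hom_fromSpec W.2).symm) ≫
          (pullbackSpecIso k C Γ(Y, W)).hom
      have hiso : iso ≫ oC W = pullback.map _ _ _ _ (𝟙 _) W.1.ι (𝟙 _) (by simp) (by simp) := by
        simp only [iso, oC, Category.assoc, Iso.hom_inv_id_assoc]
        apply pullback.hom_ext
        · simp [pullback.map]
          erw [pullback.lift_fst, pullback.lift_fst]
          exact (pullback.lift_fst _ _ _).symm
        · simp [pullback.map, IsAffineOpen.isoSpec_hom_fromSpec]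
          erw [pullback.lift_snd, pullback.lift_snd_assoc]
          exact ((Category.assoc _ _ _).trans (congrArg (_ ≫ ·) (IsAffineOpen.isoSpec_hom_fromSpec W.2))).trans
            (pullback.lift_snd _ _ _).symm
      refine ⟨iso ≫ e, ?_⟩
      exact (Category.assoc _ _ _).trans ((congrArg (iso ≫ ·) he).trans
        (((congrArg (iso ≫ ·) (hcompat W)).symm.trans (Category.assoc _ _ _).symm).trans (congrArg (· ≫ _) hiso)))
  rw [step, iSup_le_iff]
  refine forall_congr' fun W => ?_
  rw [iSup_le_iff]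
  constructor
  · intro hle φ
    rw [Ideal.span_le]
    rintro _ ⟨z, hz, rfl⟩
    show hA (slice φ z) = 0
    rw [← slice_map, show Algebra.TensorProduct.map hA (AlgHom.id k Γ(Y, W)) z = 0 from hle hz, map_zero]
  · intro hle z hz
    refine eq_zero_of_slice _ fun φ => ?_
    show slice φ (Algebra.TensorProduct.map hA (AlgHom.id k Γ(Y, W)) z) = 0
    rw [slice_map]
    exact hle φ (Ideal.subset_span ⟨z, hz, rfl⟩)

/-- The closed subscheme of points `p` with `p × Y` inside `E`. -/
theorem exists_restriction : ∃ (Z : Scheme.{u}) (i : Z ⟶ X), IsClosedImmersion i ∧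
    ∀ {T : Scheme.{u}} (g : T ⟶ X), (∃ z : T ⟶ Z, z ≫ i = g) ↔ Good x y j g := by
  choose I hI using exists_affineIdeal x y j
  have hmap : ∀ (U : X.affineOpens) (f : Γ(X, U)),
      (I U).map (X.presheaf.map (homOfLE <| X.basicOpen_le f).op).hom = I (X.affineBasicOpen f) := by
    intro U f
    let r := X.presheaf.map (homOfLE <| X.basicOpen_le f).op
    have hr : ∀ (C : CommRingCat.{u}) (h : Γ(X, X.affineBasicOpen f) ⟶ C),
        Spec.map h ≫ (X.affineBasicOpen f).2.fromSpec = Spec.map (r ≫ h) ≫ U.2.fromSpec := fun C h =>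
      (congrArg (Spec.map h ≫ ·) (U.2.map_fromSpec (X.affineBasicOpen f).2 (homOfLE <| X.basicOpen_le f).op).symm).trans
        ((Category.assoc _ _ _).symm.trans (congrArg (· ≫ _) (Spec.map_comp r h).symm))
    apply le_antisymm
    · let h : Γ(X, X.affineBasicOpen f) ⟶ CommRingCat.of (Γ(X, X.affineBasicOpen f) ⧸ I (X.affineBasicOpen f)) :=
        CommRingCat.ofHom (Ideal.Quotient.mk _)
      have hg := (hI (X.affineBasicOpen f) _ h).2 (le_of_eq Ideal.mk_ker.symm)
      rw [hr] at hg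
      have := (hI U _ (r ≫ h)).1 hg
      exact Ideal.map_le_iff_le_comap.2 fun a ha => (Ideal.Quotient.eq_zero_iff_mem (I := I (X.affineBasicOpen f))).1 (this ha)
    · let M : Ideal Γ(X, X.affineBasicOpen f) := (I U).map r.hom
      let h : Γ(X, X.affineBasicOpen f) ⟶ CommRingCat.of (Γ(X, X.affineBasicOpen f) ⧸ M) :=
        CommRingCat.ofHom (Ideal.Quotient.mk _)
      have hg : Good x y j (Spec.map (r ≫ h) ≫ U.2.fromSpec) := (hI U _ (r ≫ h)).2 fun a ha => by
        show Ideal.Quotient.mk M (r.hom a) = 0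
        exact Ideal.Quotient.eq_zero_iff_mem.2 (Ideal.mem_map_of_mem _ ha)
      rw [← hr] at hg
      exact ((hI _ _ h).1 hg).trans (le_of_eq Ideal.mk_ker)
  let D : X.IdealSheafData := { ideal := I, map_ideal_basicOpen := hmap }
  have hchart : ∀ (U : X.affineOpens) (C : CommRingCat.{u}) (h : Γ(X, U) ⟶ C),
      (∃ z : Spec C ⟶ D.subscheme, z ≫ D.subschemeι = Spec.map h ≫ U.2.fromSpec) ↔ I U ≤ RingHom.ker h.hom := by
    intro U C h
    let fU : Spec (CommRingCat.of (Γ(X, U) ⧸ I U)) ⟶ D.subscheme := D.subschemeCover.f U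
    haveI : IsOpenImmersion fU := D.subschemeCover.map_prop U
    haveI : IsOpenImmersion U.2.fromSpec := U.2.isOpenImmersion_fromSpec
    have hfr : fU.opensRange = D.subschemeι ⁻¹ᵁ U := Scheme.IdealSheafData.opensRange_subschemeCover_map _ U
    have hf : fU ≫ D.subschemeι =
        Spec.map (CommRingCat.ofHom (Ideal.Quotient.mk (I U))) ≫ U.2.fromSpec := by
      exact (Scheme.IdealSheafData.subschemeCover_map_subschemeι _ U).trans (Scheme.IdealSheafData.glueDataObjι_ι _ U)
    constructor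
    · rintro ⟨z, hz⟩
      let z' : Spec C ⟶ Spec (CommRingCat.of (Γ(X, U) ⧸ I U)) := IsOpenImmersion.lift fU z (by
        rintro _ ⟨t, rfl⟩
        rw [← Scheme.Hom.coe_opensRange, hfr]
        show (z ≫ D.subschemeι) t ∈ U.1
        rw [hz]
        exact U.2.range_fromSpec.le ⟨_, rfl⟩)
      have h1 : (z' ≫ Spec.map (CommRingCat.ofHom (Ideal.Quotient.mk (I U)))) = Spec.map h := by
        rw [← cancel_mono U.2.fromSpec, Category.assoc, ← hf, ← Category.assoc]
        exact (congrArg (· ≫ _) (IsOpenImmersion.lift_fac _ _ _)).trans hz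
      rw [← Spec.map_preimage z', ← Spec.map_comp, Spec.map_inj] at h1
      rw [← h1]
      intro a ha
      simp [Ideal.Quotient.eq_zero_iff_mem.2 ha]
    · intro hle
      let h' : CommRingCat.of (Γ(X, U) ⧸ I U) ⟶ C :=
        CommRingCat.ofHom (Ideal.Quotient.lift (I U) h.hom fun a ha => hle ha)
      refine ⟨Spec.map h' ≫ fU, ?_⟩
      refine (Category.assoc _ _ _).trans ((congrArg (Spec.map h' ≫ ·) hf).trans ?_)
      exact (Category.assoc _ _ _).symm.trans (congrArg (· ≫ _) (Spec.map_comp _ h').symm)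
  refine ⟨D.subscheme, D.subschemeι, inferInstance, fun {T} g => ?_⟩
  let 𝒱 := T.openCoverOfIsOpenCover _ (iSup_affineOpens_eq_top T)
  let 𝒲 := (Scheme.OpenCover.affineRefinement ((X.openCoverOfIsOpenCover _ (iSup_affineOpens_eq_top X)).pullback₁ g)).openCover
  haveI : ∀ i, IsAffine (𝒲.X i) := fun i => inferInstanceAs (IsAffine (Spec _))
  have key : ∀ i, ∃ (U : X.affineOpens) (h : Γ(X, U) ⟶ Γ(𝒲.X i, ⊤)),
      (𝒲.X i).isoSpec.inv ≫ 𝒲.f i ≫ g = Spec.map h ≫ U.2.fromSpec := by
    intro i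
    let U : X.affineOpens := i.1
    haveI : IsOpenImmersion U.2.fromSpec := U.2.isOpenImmersion_fromSpec
    have hin : Set.range ((𝒲.X i).isoSpec.inv ≫ 𝒲.f i ≫ g) ⊆ Set.range U.2.fromSpec := by
      rw [U.2.range_fromSpec]
      rintro _ ⟨t, rfl⟩
      have hfac : ∃ a : 𝒲.X i ⟶ U.1.toScheme, 𝒲.f i ≫ g = a ≫ U.1.ι := by
        refine ⟨(((X.openCoverOfIsOpenCover _ (iSup_affineOpens_eq_top X)).pullback₁ g).X i.1).affineCover.f i.2 ≫
          pullback.snd _ _, ?_⟩
        simp only [𝒲, Category.assoc]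
        erw [Category.assoc, pullback.condition]
        rfl
      obtain ⟨a, ha⟩ := hfac
      rw [ha, ← Category.assoc, Scheme.Hom.comp_apply]
      exact (((𝒲.X i).isoSpec.inv ≫ a) t).2
    obtain ⟨h, hh⟩ := Spec.map_surjective (IsOpenImmersion.lift U.2.fromSpec _ hin)
    exact ⟨U, h, by rw [hh, IsOpenImmersion.lift_fac]⟩
  constructor
  · rintro ⟨z, hz⟩
    refine good_of_cover x y j g 𝒲 fun i => ?_
    obtain ⟨U, h, hh⟩ := key i
    have hg : Good x y j (Spec.map h ≫ U.2.fromSpec) :=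
      (hI U _ h).2 ((hchart U _ h).1 ⟨(𝒲.X i).isoSpec.inv ≫ 𝒲.f i ≫ z, by simp only [Category.assoc, hz, hh]⟩)
    rw [← hh] at hg
    simpa using good_comp x y j (𝒲.X i).isoSpec.hom _ hg
  · intro hg
    refine factors_of_cover D.subschemeι g 𝒲 fun i => ?_
    obtain ⟨U, h, hh⟩ := key i
    have h' : Good x y j (Spec.map h ≫ U.2.fromSpec) := by
      rw [← hh, ← Category.assoc]
      exact good_comp x y j _ g hg
    obtain ⟨z, hz⟩ := (hchart U _ h).2 ((hI U _ h).1 h')
    exact ⟨(𝒲.X i).isoSpec.hom ≫ z, by rw [Category.assoc, hz, ← hh, Iso.hom_inv_id_assoc]⟩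

end Groth.Agent.GrpSchLib.ClosedRestriction
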