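import Groth.Agent.GrpSchLib.Component
import Groth.Agent.ASp.LiftDim

/-! The local rings of a group scheme at its closed points all have the same dimension. -/

set_option autoImplicit false
universe u

open CategoryTheory CategoryTheory.Limits AlgebraicGeometry MonObj MonoidalCategory CartesianMonoidalCategory

noncomputable section

namespace Groth.Agent.GrpSchLib

attribute [local instance 10] specializationOrder

theorem isGenLift_of_integral {A B : Scheme.{u}} (t : A ⟶ B) [IsIntegralHom t] [Flat t] : ASp.IsGenLift t where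
  cont := t.continuous
  lift hb := Flat.generalizingMap t hb
  eq_of_specializes {a a'} e hs := by
    obtain ⟨V, hV, haV, -⟩ := exists_isAffineOpen_mem_and_subset (X := B) (x := t a) (U := ⊤) trivial
    let U := t ⁻¹ᵁ V
    have hU : IsAffineOpen U := hV.preimage t
    have haU : a ∈ U := haV
    have ha'U : a' ∈ U := show t a' ∈ V from e ▸ haV
    have hi : (t.appLE V U le_rfl).hom.IsIntegral := by
      rw [Scheme.Hom.appLE_eq_app]
      exact IsIntegralHom.isIntegral_app t V hV
    letI := (t.appLE V U le_rfl).hom.toAlgebra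
    haveI : Algebra.IsIntegral Γ(B, V) Γ(A, U) := ⟨hi⟩
    set p := hU.primeIdealOf ⟨a, haU⟩ with hp
    set p' := hU.primeIdealOf ⟨a', ha'U⟩ with hp'
    have hcomap : p'.comap (t.appLE V U le_rfl).hom = p.comap (t.appLE V U le_rfl).hom := by
      rw [hp, hp', IsAffineOpen.comap_primeIdealOf_appLE V hV U hU le_rfl ha'U,
        IsAffineOpen.comap_primeIdealOf_appLE V hV U hU le_rfl haU]
      exact congrArg _ (Subtype.ext e.symm)
    have hle : p' ⤳ p := by
      refine (hU.fromSpec.isOpenEmbedding.isInducing.specializes_iff).1 ?_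
      rw [hp, hp', IsAffineOpen.fromSpec_primeIdealOf, IsAffineOpen.fromSpec_primeIdealOf]
      exact hs
    have hpp : p' = p := by
      rcases ((PrimeSpectrum.le_iff_specializes p' p).2 hle).eq_or_lt with h | h
      · exact h
      · exact absurd (congrArg PrimeSpectrum.asIdeal hcomap)
          (Ideal.IsIntegral.comap_lt_comap (show p'.asIdeal < p.asIdeal from h)).ne
    have := congrArg hU.fromSpec hpp
    rw [hp, hp', IsAffineOpen.fromSpec_primeIdealOf, IsAffineOpen.fromSpec_primeIdealOf] at this
    exact this.symm

theorem isGenLift_of_isIso {A B : Scheme.{u}} (t : A ⟶ B) [IsIso t] : ASp.IsGenLift t :=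
  isGenLift_of_integral t

theorem isClosed_singleton_of_isGenLift {A B : Type u} [TopologicalSpace A] [TopologicalSpace B] {f : A → B}
    (h : ASp.IsGenLift f) {a : A} (ha : IsClosed ({f a} : Set B)) : IsClosed ({a} : Set A) := by
  refine isClosed_of_closure_subset fun b hb => ?_
  have hs : a ⤳ b := specializes_iff_mem_closure.2 hb
  have hb' : f b = f a := by
    have := (hs.map h.cont).mem_closed ha rfl
    exact this
  exact (h.eq_of_specializes hb' hs).symm ▸ rfl

variable {K : Type u} [Field K]

theorem coheight_eq_of_isAlgClosed [IsAlgClosed K] {X : Scheme.{u}} (f : X ⟶ Spec (CommRingCat.of K))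
    [LocallyOfFiniteType f] [GrpObj (Over.mk f)] {x y : X} (hx : IsClosed ({x} : Set X))
    (hy : IsClosed ({y} : Set X)) : Order.coheight x = Order.coheight y := by
  haveI := LocallyOfFiniteType.jacobsonSpace f
  let x' : 𝟙_ _ ⟶ Over.mk f := Over.homMk _ ((pointEquivClosedPoint f).symm ⟨x, hx⟩).2
  let y' : 𝟙_ _ ⟶ Over.mk f := Over.homMk _ ((pointEquivClosedPoint f).symm ⟨y, hy⟩).2
  let α := (GrpObj.mulRight (A := Over.mk f) x').symm ≪≫
    (GrpObj.mulRight (A := Over.mk f) y')
  have hα : x' ≫ α.hom = y' := by
    dsimp only [Iso.trans_hom, Iso.symm_hom, α]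
    rw [← Category.assoc, ← Iso.eq_comp_inv]
    simp [comp_lift_assoc]
  have hα' : α.hom.left x = y := by
    have e := congr(($hα).left (IsLocalRing.closedPoint K))
    have ex : x'.left (IsLocalRing.closedPoint K) = x :=
      congrArg Subtype.val ((pointEquivClosedPoint f).apply_symm_apply ⟨x, hx⟩)
    have ey : y'.left (IsLocalRing.closedPoint K) = y :=
      congrArg Subtype.val ((pointEquivClosedPoint f).apply_symm_apply ⟨y, hy⟩)
    exact (congrArg _ ex).symm.trans (e.trans ey)
  haveI : IsIso α.hom.left := inferInstanceAs (IsIso ((Over.forget _).map α.hom))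
  rw [← hα']
  exact ((isGenLift_of_isIso α.hom.left).coheight_eq x).symm

variable (G : Over (Spec (CommRingCat.of K))) [GrpObj G] [LocallyOfFiniteType G.hom]

theorem coheight_eq_of_isClosed {x y : G.left} (hx : IsClosed ({x} : Set G.left))
    (hy : IsClosed ({y} : Set G.left)) : Order.coheight x = Order.coheight y := by
  let Ω : Type u := AlgebraicClosure K
  let g : Spec (CommRingCat.of Ω) ⟶ Spec (CommRingCat.of K) := Spec.map (CommRingCat.ofHom <| algebraMap K Ω)
  haveI : IsIntegralHom g := by
    rw [IsIntegralHom.SpecMap_iff]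
    exact fun y => Algebra.IsIntegral.isIntegral y
  haveI : GrpObj (Over.mk G.hom) := ‹GrpObj G›
  haveI : GrpObj (Over.mk (pullback.snd G.hom g)) := Over.grpObjMkPullbackSnd
  let p := pullback.fst G.hom g
  haveI : IsIntegralHom p := inferInstanceAs (IsIntegralHom (pullback.fst G.hom g))
  haveI : Flat p := inferInstanceAs (Flat (pullback.fst G.hom g))
  haveI : Surjective p := inferInstanceAs (Surjective (pullback.fst G.hom g))
  have hp := isGenLift_of_integral p
  obtain ⟨x', rfl⟩ := p.surjective x
  obtain ⟨y', rfl⟩ := p.surjective y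
  rw [hp.coheight_eq, hp.coheight_eq]
  exact coheight_eq_of_isAlgClosed (pullback.snd G.hom g) (isClosed_singleton_of_isGenLift hp hx)
    (isClosed_singleton_of_isGenLift hp hy)

/-- The dimension of a group scheme is the dimension of its local ring at any closed point. -/
theorem ringKrullDim_stalk_eq_topologicalKrullDim (x : G.left) (hx : IsClosed ({x} : Set G.left)) :
    ringKrullDim (G.left.presheaf.stalk x) = topologicalKrullDim G.left := by
  haveI := LocallyOfFiniteType.jacobsonSpace G.hom
  rw [ringKrullDim_stalk_eq_coheight, ASp.topologicalKrullDim_eq_krullDim]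
  refine le_antisymm (Order.coheight_le_krullDim x) ?_
  rw [Order.krullDim_eq_iSup_coheight]
  refine iSup_le fun z => ?_
  obtain ⟨c, hcz, hc⟩ := nonempty_inter_closedPoints (X := G.left) (Z := closure {z})
    ⟨z, subset_closure rfl⟩ isClosed_closure.isLocallyClosed
  rw [coheight_eq_of_isClosed G hx hc]
  exact WithBot.coe_le_coe.2 (Order.coheight_anti (show c ≤ z from specializes_iff_mem_closure.2 hcz))

end Groth.Agent.GrpSchLib
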