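import Groth.Agent.GrpSchLib.CartierAlg
import Groth.Agent.GrpSchLib.Smooth

/-! Group schemes in characteristic zero are smooth. -/

set_option autoImplicit false
universe u

open CategoryTheory MonoidalCategory CartesianMonoidalCategory MonObj AlgebraicGeometry
open scoped DualNumber

noncomputable section

namespace Groth.Agent.GrpSchLib

variable {K : Type u} [Field K]

/-- `Spec` of a `K`-algebra over `Spec K`. -/
abbrev spO (K : Type u) [Field K] (R : Type u) [CommRing R] [Algebra K R] :
    Over (Spec (CommRingCat.of K)) :=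
  Over.mk (Spec.map (CommRingCat.ofHom (algebraMap K R)))

variable {R T : Type u} [CommRing R] [Algebra K R] [CommRing T] [Algebra K T]

/-- `Spec` of an algebra map. -/
def spMap (g : R →ₐ[K] T) : spO K T ⟶ spO K R :=
  Over.homMk (Spec.map (CommRingCat.ofHom g.toRingHom)) (by
    show _ ≫ Spec.map _ = Spec.map _
    rw [← Spec.map_comp, ← CommRingCat.ofHom_comp]
    exact congrArg (fun φ => Spec.map (CommRingCat.ofHom φ)) g.comp_algebraMap)

theorem spMap_comp {T' : Type u} [CommRing T'] [Algebra K T'] (g : R →ₐ[K] T) (h : T →ₐ[K] T') :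
    spMap (h.comp g) = spMap h ≫ spMap g := by
  ext1
  show Spec.map _ = Spec.map _ ≫ Spec.map _
  rw [← Spec.map_comp, ← CommRingCat.ofHom_comp]
  rfl

theorem spMap_id : spMap (AlgHom.id K R) = 𝟙 (spO K R) := by
  ext1
  exact Spec.map_id _

theorem exists_spMap (u : spO K T ⟶ spO K R) : ∃ g : R →ₐ[K] T, spMap g = u := by
  obtain ⟨φ, hφ⟩ := Spec.map_surjective u.left
  have h : CommRingCat.ofHom (algebraMap K R) ≫ φ = CommRingCat.ofHom (algebraMap K T) := by
    apply Spec.map_injective
    rw [Spec.map_comp, hφ]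
    exact Over.w u
  refine ⟨{ φ.hom with commutes' := fun c => RingHom.congr_fun (congrArg CommRingCat.Hom.hom h) c }, ?_⟩
  ext1
  exact hφ

theorem spMap_injective : Function.Injective (spMap (K := K) (R := R) (T := T)) := fun g h e =>
  AlgHom.coe_ringHom_injective (congrArg CommRingCat.Hom.hom (Spec.map_injective (congrArg CommaMorphism.left e)))

theorem toUnit_comp {G : Over (Spec (CommRingCat.of K))} [GrpObj G] (u : spO K R ⟶ spO K K) (w : spO K K ⟶ G)
    (hw : w = (1 : spO K K ⟶ G)) : u ≫ w = 1 := by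
  rw [hw, MonObj.comp_one]

variable {A : Type u} [CommRing A] [Algebra K A]

/-- Coefficientwise extension `K[ε] → A[ε]`. -/
def dualMap : K[ε] →ₐ[K] A[ε] where
  toFun x := TrivSqZeroExt.inl (algebraMap K A (TrivSqZeroExt.fst x)) +
    TrivSqZeroExt.inr (algebraMap K A (TrivSqZeroExt.snd x))
  map_one' := by ext <;> simp
  map_zero' := by ext <;> simp
  map_add' x y := by ext <;> simp [map_add] <;> simp only [Algebra.smul_def] <;> ring
  map_mul' x y := by ext <;> simp [map_add, map_mul] <;> simp only [Algebra.smul_def] <;> ring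
  commutes' c := by ext <;> simp [TrivSqZeroExt.algebraMap_eq_inl']

theorem exists_derivation {G : Over (Spec (CommRingCat.of K))} [GrpObj G]
    (jA : spO K A ⟶ G) [IsOpenImmersion jA.left] (e : A →ₐ[K] K) (he : spMap e ≫ jA = (1 : spO K K ⟶ G))
    (v : A →ₗ[K] K) (hv : ∀ a b, v (a * b) = e a * v b + e b * v a) :
    ∃ D : Derivation K A A, ∀ a, e (D a) = v a := by
  have hv1 : v 1 = 0 := by
    have := hv 1 1
    simp only [map_one, _root_.one_mul] at this
    exact left_eq_add.mp this
  let vp : A →ₐ[K] K[ε] :=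
    { toFun := fun a => TrivSqZeroExt.inl (e a) + TrivSqZeroExt.inr (v a)
      map_one' := by ext <;> simp [hv1]
      map_zero' := by ext <;> simp
      map_add' := fun a b => by ext <;> simp [map_add]
      map_mul' := fun a b => by ext <;> simp [hv, mul_comm]
      commutes' := fun c => by
        have : v (algebraMap K A c) = 0 := by rw [Algebra.algebraMap_eq_smul_one, map_smul, hv1, smul_zero]
        ext <;> simp [this, TrivSqZeroExt.algebraMap_eq_inl'] }
  let red : A[ε] →ₐ[K] A := TrivSqZeroExt.fstHom K A A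
  let inlA : A →ₐ[K] A[ε] := TrivSqZeroExt.inlAlgHom K A A
  let F : spO K A[ε] ⟶ G := (spMap inlA ≫ jA) * (spMap dualMap ≫ spMap vp ≫ jA)
  have hpt : ∀ (R : Type u) [CommRing R] [Algebra K R] (g : K →ₐ[K] R), spMap (g.comp e) ≫ jA = 1 := by
    intro R _ _ g
    rw [spMap_comp, Category.assoc, he, MonObj.comp_one]
  have hred : spMap red ≫ F = jA := by
    rw [MonObj.comp_mul, ← Category.assoc, ← spMap_comp, ← Category.assoc, ← spMap_comp,
      ← Category.assoc, ← spMap_comp]
    have e1 : red.comp inlA = AlgHom.id K A := AlgHom.ext fun a => by simp [red, inlA]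
    have e2 : (red.comp dualMap).comp vp = (Algebra.ofId K A).comp e :=
      AlgHom.ext fun a => by simp [red, dualMap, vp, Algebra.ofId_apply]
    rw [e1, e2, hpt, _root_.mul_one, spMap_id, Category.id_comp]
  have hrange : Set.range F.left ⊆ Set.range jA.left := by
    rintro _ ⟨p, rfl⟩
    have hsurj : Function.Surjective (spMap red).left := by
      intro q
      have hs : Function.Surjective red.toRingHom := fun a => ⟨inlA a, by simp [red, inlA]⟩
      have hq : q ∈ Set.range (PrimeSpectrum.comap red.toRingHom) := by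
        rw [range_comap_of_surjective _ _ hs]
        intro y hy
        have hy' : TrivSqZeroExt.fst y = 0 := hy
        refine (q.isPrime.mem_or_mem (?_ : y * y ∈ q.asIdeal)).elim id id
        rw [show y * y = 0 by ext <;> simp [hy']]
        exact zero_mem _
      exact hq
    obtain ⟨q, rfl⟩ := hsurj p
    exact ⟨q, (congrArg (fun f : spO K A ⟶ G => f.left q) hred).symm⟩
  obtain ⟨g, hg⟩ := exists_spMap (Over.homMk (IsOpenImmersion.lift jA.left F.left hrange) (by
    rw [show (spO K A).hom = jA.left ≫ G.hom from (Over.w jA).symm, IsOpenImmersion.lift_fac_assoc]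
    exact Over.w F) : spO K A[ε] ⟶ spO K A)
  have hgF : spMap g ≫ jA = F := by
    rw [hg]
    ext1
    exact IsOpenImmersion.lift_fac _ _ _
  haveI : Mono jA := (Over.forget _).mono_of_mono_map (show Mono jA.left from inferInstance)
  have h1 : red.comp g = AlgHom.id K A := by
    apply spMap_injective
    rw [← cancel_mono jA, spMap_comp, Category.assoc, hgF, hred, spMap_id, Category.id_comp]
  let s : A[ε] →ₐ[K] K[ε] :=
    { toFun := fun x => TrivSqZeroExt.inl (e x.fst) + TrivSqZeroExt.inr (e x.snd)
      map_one' := by ext <;> simp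
      map_zero' := by ext <;> simp
      map_add' := fun x y => by ext <;> simp [map_add]
      map_mul' := fun x y => by ext <;> simp [map_add, map_mul, mul_comm]
      commutes' := fun c => by ext <;> simp [TrivSqZeroExt.algebraMap_eq_inl'] }
  have h2 : s.comp g = vp := by
    apply spMap_injective
    rw [← cancel_mono jA, spMap_comp, Category.assoc, hgF, MonObj.comp_mul, ← Category.assoc, ← spMap_comp,
      ← Category.assoc, ← spMap_comp, ← Category.assoc, ← spMap_comp]
    have e1 : s.comp inlA = (Algebra.ofId K K[ε]).comp e :=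
      AlgHom.ext fun a => by ext <;> simp [s, inlA, Algebra.ofId_apply, TrivSqZeroExt.algebraMap_eq_inl']
    have e2 : (s.comp dualMap).comp vp = vp :=
      AlgHom.ext fun a => by ext <;> simp [s, dualMap, vp]
    rw [e1, e2, hpt, _root_.one_mul]
  have hfst : ∀ a, (g a).fst = a := fun a => AlgHom.congr_fun h1 a
  refine ⟨Derivation.mk' ((TrivSqZeroExt.sndHom A A).restrictScalars K ∘ₗ g.toLinearMap) (fun a b => ?_), fun a => ?_⟩
  · simp [hfst]; ring
  · have := congrArg TrivSqZeroExt.snd (AlgHom.congr_fun h2 a)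
    simpa [s, vp] using this

/-- In characteristic zero a group scheme locally of finite type is smooth. -/
theorem smooth_of_charZero [CharZero K] (G : Over (Spec (CommRingCat.of K))) [GrpObj G]
    [LocallyOfFiniteType G.hom] : Smooth G.hom := by
  let x₀ : G.left := (MonObj.one (X := G)).left (IsLocalRing.closedPoint K)
  obtain ⟨U, hU, hx, -⟩ := G.left.isBasis_affineOpens.exists_subset_of_mem_open (Set.mem_univ x₀) isOpen_univ
  obtain ⟨U, hUaff, rfl⟩ := hU
  let A : Type u := Γ(G.left, U)
  let φ : CommRingCat.of K ⟶ Γ(G.left, U) := Spec.preimage (hUaff.fromSpec ≫ G.hom)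
  letI : Algebra K A := φ.hom.toAlgebra
  haveI : IsOpenImmersion hUaff.fromSpec := hUaff.isOpenImmersion_fromSpec
  haveI : LocallyOfFiniteType (hUaff.fromSpec ≫ G.hom) :=
    MorphismProperty.comp_mem @LocallyOfFiniteType _ _ inferInstance inferInstance
  have hw : hUaff.fromSpec ≫ G.hom = Spec.map (CommRingCat.ofHom (algebraMap K A)) := by
    rw [← Spec.map_preimage (hUaff.fromSpec ≫ G.hom)]
    rfl
  haveI : Algebra.FiniteType K A := by
    have h : LocallyOfFiniteType (Spec.map (CommRingCat.ofHom (algebraMap K A))) := hw ▸ inferInstance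
    exact RingHom.finiteType_algebraMap.mp ((HasRingHomProperty.Spec_iff (P := @LocallyOfFiniteType)).mp h)
  let jA : spO K A ⟶ G := Over.homMk hUaff.fromSpec hw
  haveI : IsOpenImmersion jA.left := inferInstanceAs (IsOpenImmersion hUaff.fromSpec)
  let u : spO K K ⟶ G := 1
  have hru : Set.range u.left ⊆ Set.range jA.left := by
    rintro _ ⟨p, rfl⟩
    show _ ∈ Set.range hUaff.fromSpec
    rw [hUaff.range_fromSpec]
    show u.left p ∈ U
    have e0 : u.left p = x₀ := by
      show (toUnit (spO K K) ≫ MonObj.one (X := G)).left p = _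
      exact congrArg (MonObj.one (X := G)).left (@Subsingleton.elim _ (inferInstanceAs (Subsingleton (PrimeSpectrum K))) _ _)
    rw [e0]; exact hx
  obtain ⟨e, he'⟩ := exists_spMap (Over.homMk (IsOpenImmersion.lift jA.left u.left hru) (by
    rw [show (spO K A).hom = jA.left ≫ G.hom from (Over.w jA).symm, IsOpenImmersion.lift_fac_assoc]
    exact Over.w u) : spO K K ⟶ spO K A)
  have he : spMap e ≫ jA = 1 := by
    rw [he']
    ext1
    exact IsOpenImmersion.lift_fac _ _ _
  obtain ⟨s, hs, hnil⟩ := exists_smul_nilradical_eq_zero e (exists_derivation jA e he)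
  let Rs := Localization.Away s
  haveI : IsReduced Rs := by
    refine ⟨fun r ⟨n, hn⟩ => ?_⟩
    obtain ⟨a, ⟨t, ht⟩, rfl⟩ := IsLocalization.exists_mk'_eq (Submonoid.powers s) r
    rw [IsLocalization.mk'_eq_zero_iff]
    rw [← IsLocalization.mk'_pow, IsLocalization.mk'_eq_zero_iff] at hn
    obtain ⟨⟨c, m, rfl⟩, hc⟩ := hn
    refine ⟨⟨s ^ (m + 1), _, rfl⟩, ?_⟩
    have h : IsNilpotent (s ^ m * a) := ⟨n + 1, by
      rw [mul_pow, pow_succ a n]
      calc (s ^ m) ^ (n + 1) * (a ^ n * a) = (s ^ m) ^ n * a * (s ^ m * a ^ n) := by ring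
        _ = 0 := by rw [show s ^ m * a ^ n = 0 from hc, mul_zero]⟩
    show s ^ (m + 1) * a = 0
    rw [pow_succ', _root_.mul_assoc]
    exact hnil _ h
  let j : spO K Rs ⟶ G := spMap (IsScalarTower.toAlgHom K A Rs) ≫ jA
  haveI : IsOpenImmersion j.left := by
    haveI : IsOpenImmersion (Spec.map (CommRingCat.ofHom (algebraMap A Rs))) :=
      IsOpenImmersion.of_isLocalization s
    exact inferInstanceAs (IsOpenImmersion (Spec.map (CommRingCat.ofHom (algebraMap A Rs)) ≫ hUaff.fromSpec))
  haveI : LocallyOfFiniteType (spO K Rs).hom := by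
    rw [← Over.w j]; infer_instance
  haveI : IsReduced (spO K Rs).left := inferInstanceAs (AlgebraicGeometry.IsReduced (Spec (CommRingCat.of Rs)))
  haveI : Nonempty (spO K Rs).left := by
    refine ⟨⟨(pIdeal e).map (algebraMap A Rs), ?_⟩⟩
    exact IsLocalization.isPrime_of_isPrime_disjoint (Submonoid.powers s) _ _ (RingHom.ker_isPrime _)
      (Set.disjoint_left.mpr fun _ ⟨n, hn⟩ h => hs ((RingHom.ker_isPrime e).mem_of_pow_mem n (by rw [show s ^ n = _ from hn]; exact h)))
  let V := (spO K Rs).hom.smoothLocus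
  have hVne : (V : Set (spO K Rs).left).Nonempty := (spO K Rs).hom.dense_smoothLocus_of_perfectField.nonempty
  let W : G.left.Opens := j.left ''ᵁ V
  have hWV : j.left ⁻¹ᵁ G.hom.smoothLocus = V := by
    rw [Scheme.Hom.preimage_smoothLocus_eq]
    congr 1
    exact Over.w j
  obtain ⟨x, hx'⟩ := hVne
  haveI : Smooth (G.hom.smoothLocus.ι ≫ G.hom) := by
    rw [← Scheme.Hom.smoothLocus_eq_top_iff, ← Scheme.Hom.preimage_smoothLocus_eq]
    exact Scheme.Opens.ι_preimage_self _
  exact smooth_of_smooth_open G G.hom.smoothLocus ⟨j.left x, hWV.ge hx'⟩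

end Groth.Agent.GrpSchLib
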