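import Groth.Agent.GrpSchLib.HopfTrace
import Groth.Agent.FlatLocus.SmoothFibres
import Mathlib

/-! Group schemes of invertible order are étale. -/

set_option autoImplicit false
universe u

open CategoryTheory CategoryTheory.Limits AlgebraicGeometry MonObj MonoidalCategory CartesianMonoidalCategory

noncomputable section

namespace Groth.Agent.GrpSchLib

theorem exists_hopfAlgebra (R : CommRingCat.{u}) (G : Over (Spec R)) [GrpObj G] [IsAffine G.left] :
    ∃ (A : CommRingCat.{u}) (_ : HopfAlgebra R A) (e : G.left ≅ Spec A),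
      G.hom = e.hom ≫ Spec.map (CommRingCat.ofHom (algebraMap R A)) := by
  letI : G.left.Over (Spec R) := ⟨G.hom⟩
  letI : GrpObj (G.left.asOver (Spec R)) := ‹GrpObj G›
  refine ⟨Γ(G.left, ⊤), inferInstance, G.left.isoSpec, ?_⟩
  rw [← Iso.inv_comp_eq]
  exact (Spec.fullyFaithful.map_preimage (X := Opposite.op Γ(G.left, ⊤)) (Y := Opposite.op R)
    (G.left.isoSpec.inv ≫ G.hom)).symm

theorem etale_of_finrank_ne_zero_field {K : Type u} [Field K] (G : Over (Spec (CommRingCat.of K))) [GrpObj G]
    [IsFinite G.hom] (h : ∀ x, (G.hom.finrank x : K) ≠ 0) : Etale G.hom := by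
  haveI : IsAffine G.left := isAffine_of_isAffineHom G.hom
  obtain ⟨A, hA, e, he⟩ := exists_hopfAlgebra (CommRingCat.of K) G
  let B : Type u := A
  letI : HopfAlgebra K B := hA
  let φ := CommRingCat.ofHom (algebraMap K B)
  have hφ : G.hom = e.hom ≫ Spec.map φ := he
  haveI : IsFinite (Spec.map φ) := by
    have : IsFinite (e.hom ≫ Spec.map φ) := hφ ▸ inferInstance
    exact (MorphismProperty.cancel_left_of_respectsIso @IsFinite _ _).1 this
  haveI : Module.Finite K B := RingHom.finite_algebraMap.1 ((IsFinite.SpecMap_iff φ).1 inferInstance)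
  have hn : (Module.finrank K B : K) ≠ 0 := by
    have h' := h (⊥ : PrimeSpectrum K)
    rw [hφ, Scheme.Hom.finrank_comp_left_of_isIso, Scheme.Hom.finrank_SpecMap_algebraMap,
      Module.rankAtStalk_eq_finrank_of_free] at h'
    exact h'
  haveI := HopfTrace.etale_of_finrank_ne_zero K B hn
  have : Etale (Spec.map φ) := (HasRingHomProperty.Spec_iff (P := @Etale)).2 (RingHom.etale_algebraMap.2 inferInstance)
  rw [hφ]
  exact (MorphismProperty.cancel_left_of_respectsIso @Etale _ _).2 this

/-- A quasi-finite flat group scheme with fibres of invertible order is étale. -/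
theorem etale_of_fibre_order {S : Scheme.{u}} (G : Over S) [GrpObj G] [LocallyQuasiFinite G.hom]
    [QuasiCompact G.hom] [Flat G.hom] [LocallyOfFinitePresentation G.hom]
    (h : ∀ (s : S) (x : ↥(Spec (S.residueField s))),
      ((pullback.snd G.hom (S.fromSpecResidueField s)).finrank x : S.residueField s) ≠ 0) :
    Etale G.hom := by
  haveI : FormallyUnramified G.hom := FlatLocus.formallyUnramified_of_fibres G.hom fun s => by
    haveI : GrpObj (Over.mk G.hom) := ‹GrpObj G›
    haveI : GrpObj (Over.mk (pullback.snd G.hom (S.fromSpecResidueField s))) := Over.grpObjMkPullbackSnd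
    haveI : IsFinite (pullback.snd G.hom (S.fromSpecResidueField s)) :=
      inferInstanceAs (IsFinite (G.hom.fiberToSpecResidueField s))
    haveI : IsFinite (Over.mk (pullback.snd G.hom (S.fromSpecResidueField s))).hom := ‹_›
    haveI : Etale (G.hom.fiberToSpecResidueField s) :=
      etale_of_finrank_ne_zero_field (K := S.residueField s) (Over.mk (pullback.snd G.hom (S.fromSpecResidueField s))) (h s)
    infer_instance
  exact Etale.of_formallyUnramified_of_flat G.hom

end Groth.Agent.GrpSchLib
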