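import Groth.Agent.GrpSchLib.HomImage

/-! Torsion in the group of components lifts to torsion. -/

set_option autoImplicit false
universe u

open CategoryTheory MonoidalCategory CartesianMonoidalCategory MonObj AlgebraicGeometry Limits

noncomputable section

namespace Groth.Agent.GrpSchLib

theorem isMonHom_pow {C : Type*} [Category C] [CartesianMonoidalCategory C] [BraidedCategory C] {H G : C} [GrpObj H]
    [GrpObj G] [IsCommMonObj G] (f : H ⟶ G) [IsMonHom f] (m : ℕ) : IsMonHom (f ^ m) where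
  one_hom := by
    rw [MonObj.comp_pow, IsMonHom.one_hom, show η[G] = (1 : 𝟙_ C ⟶ G) by
      rw [Hom.one_def, toUnit_unique (toUnit _) (𝟙 _), Category.id_comp], one_pow]
  mul_hom := by
    letI : CommGroup (H ⊗ H ⟶ G) := Hom.commGroup
    rw [MonObj.comp_pow, IsMonHom.mul_hom, ← Category.id_comp ((f ⊗ₘ f) ≫ μ[G])]
    have h1 : (f ⊗ₘ f) ≫ μ[G] = (fst H H ≫ f) * (snd H H ≫ f) := by
      rw [Hom.mul_def]; congr 1
      exact CartesianMonoidalCategory.hom_ext _ _ (by simp) (by simp)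
    have h2 : (f ^ m ⊗ₘ f ^ m) ≫ μ[G] = (fst H H ≫ f ^ m) * (snd H H ≫ f ^ m) := by
      rw [Hom.mul_def]; congr 1
      exact CartesianMonoidalCategory.hom_ext _ _ (by simp) (by simp)
    rw [Category.id_comp, h1, h2, MonObj.comp_pow, MonObj.comp_pow, mul_pow]

variable {K : Type u} [Field K] [IsAlgClosed K] {G G0 : Over (Spec (CommRingCat.of K))} [GrpObj G] [GrpObj G0]
  [IsCommMonObj G] [LocallyOfFiniteType G.hom]

theorem exists_isOfFinOrder (i : G0 ⟶ G) [IsMonHom i] [IsOpenImmersion i.left]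
    (hi : Set.range i.left = connectedComponent (unitPt G))
    (g : 𝟙_ (Over (Spec (CommRingCat.of K))) ⟶ G) (n : ℕ) (hn : 0 < n)
    (u : 𝟙_ (Over (Spec (CommRingCat.of K))) ⟶ G0) (hu : u ≫ i = g ^ n) :
    ∃ (v : 𝟙_ (Over (Spec (CommRingCat.of K))) ⟶ G0) (N : ℕ), 0 < N ∧ (g * (v ≫ i)⁻¹) ^ N = 1 := by
  letI : CommGroup (𝟙_ (Over (Spec (CommRingCat.of K))) ⟶ G) := Hom.commGroup
  haveI : LocallyOfFiniteType G0.hom := by rw [← Over.w i]; infer_instance
  haveI := LocallyOfFiniteType.jacobsonSpace G0.hom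
  haveI : IsLocallyNoetherian G0.left := LocallyOfFiniteType.isLocallyNoetherian G0.hom
  haveI : ConnectedSpace G0.left := by
    haveI : Nonempty G0.left := ⟨unitPt G0⟩
    refine { isPreconnected_univ := ?_, toNonempty := inferInstance }
    rw [← i.left.isOpenEmbedding.isInducing.isPreconnected_image, Set.image_univ, hi]
    exact isPreconnected_connectedComponent
  haveI := irreducibleSpace_of_connectedSpace (G := G0)
  haveI := compactSpace_of_irreducibleSpace (G := G0)
  haveI : IsNoetherian G0.left := ⟨⟩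
  let P : ℕ → (G0 ⟶ G) := fun j => i ^ (n ^ j)
  haveI hP : ∀ j, IsMonHom (P j) := fun j => isMonHom_pow i _
  let Z : ℕ → TopologicalSpace.Closeds G0.left := fun j =>
    ⟨i.left ⁻¹' closure (Set.range (P j).left), isClosed_closure.preimage i.left.continuous⟩
  have hanti : ∀ j, Z (j + 1) ≤ Z j := by
    intro j x hx
    refine (closure_mono ?_ : closure (Set.range (P (j + 1)).left) ⊆ closure (Set.range (P j).left)) hx
    have e : P (j + 1) = ((𝟙 G0) ^ n) ≫ P j := by
      have h := MonObj.comp_pow i (n ^ j) ((𝟙 G0) ^ n)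
      rw [show P j = i ^ n ^ j from rfl, h]
      rw [show ((𝟙 G0) ^ n) ≫ i = i ^ n by
        rw [MonObj.pow_comp, Category.id_comp]]
      rw [← pow_mul]
      show i ^ n ^ (j + 1) = _
      rw [pow_succ, Nat.mul_comm]
    rintro _ ⟨y, rfl⟩
    exact ⟨((𝟙 G0) ^ n).left y, by rw [e]; rfl⟩
  obtain ⟨j, hj⟩ := WellFoundedLT.antitone_chain_condition (α := TopologicalSpace.Closeds G0.left)
    (f := Z) (antitone_nat_of_succ_le hanti)
  have hz : ((u ≫ P j) : 𝟙_ _ ⟶ G).left (IsLocalRing.closedPoint K) ∈ closure (Set.range (P (j + 1)).left) := by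
    have e : u ≫ P j = (u ^ n ^ j) ≫ i := by
      rw [MonObj.pow_comp, show P j = i ^ n ^ j from rfl, MonObj.comp_pow]
    have h1 : (u ^ n ^ j).left (IsLocalRing.closedPoint K) ∈ (Z j : Set G0.left) := by
      show i.left _ ∈ closure _
      refine subset_closure ⟨u.left (IsLocalRing.closedPoint K), ?_⟩
      exact congrArg (fun m : 𝟙_ (Over (Spec (CommRingCat.of K))) ⟶ G => m.left (IsLocalRing.closedPoint K)) e
    rw [show Z j = Z (j + 1) from hj (j + 1) (Nat.le_succ j)] at h1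
    rw [e]
    exact h1
  obtain ⟨w, hw⟩ := mem_range_of_mem_closure (P (j + 1)) _ hz
  have hcl : IsClosed ((P (j + 1)).left ⁻¹' {(u ≫ P j).left (IsLocalRing.closedPoint K)}) :=
    ((pointEquivClosedPoint G.hom) ⟨(u ≫ P j).left, Over.w (u ≫ P j)⟩).2.preimage (P (j + 1)).left.continuous
  obtain ⟨v₀, hv₀, hv₀c⟩ := nonempty_inter_closedPoints ⟨w, hw⟩ hcl.isLocallyClosed
  let v : 𝟙_ (Over (Spec (CommRingCat.of K))) ⟶ G0 :=
    Over.homMk _ ((pointEquivClosedPoint G0.hom).symm ⟨v₀, hv₀c⟩).2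
  have hv : v.left (IsLocalRing.closedPoint K) = v₀ :=
    congrArg Subtype.val ((pointEquivClosedPoint G0.hom).apply_symm_apply ⟨v₀, hv₀c⟩)
  have hvz : v ≫ P (j + 1) = u ≫ P j := Over.OverMorphism.ext
    (ext_of_apply_closedPoint_eq G.hom (Over.w (v ≫ P (j + 1))) (Over.w (u ≫ P j))
      ((congrArg (P (j + 1)).left hv).trans hv₀))
  refine ⟨v, n ^ (j + 1), pow_pos hn _, ?_⟩
  rw [MonObj.comp_pow, MonObj.comp_pow, hu, ← pow_mul, ← pow_succ'] at hvz
  rw [mul_pow, inv_pow, hvz, mul_inv_cancel]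

end Groth.Agent.GrpSchLib
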