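import Groth.Agent.GrpSchLib.Basic

/-! The diagonal and the unit section. -/

set_option autoImplicit false
universe v u

open CategoryTheory MonoidalCategory CartesianMonoidalCategory MonObj AlgebraicGeometry Limits

noncomputable section

namespace Groth.Agent.GrpSchLib

section Cat

variable {C : Type u} [Category.{v} C] [CartesianMonoidalCategory C] {G : C} [GrpObj G]

/-- The diagonal is the base change of the unit. -/
theorem isPullback_diag :
    IsPullback (lift (𝟙 G) (𝟙 G)) (toUnit G) ((fst G G)⁻¹ * snd G G) η[G] := by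
  have hw : lift (𝟙 G) (𝟙 G) ≫ ((fst G G)⁻¹ * snd G G) = toUnit G ≫ η[G] := by
    rw [MonObj.comp_mul, GrpObj.comp_inv, lift_fst, lift_snd, inv_mul_cancel, Hom.one_def]
  refine IsPullback.of_isLimit' ⟨hw⟩ (PullbackCone.IsLimit.mk _ (fun s => s.fst ≫ fst G G) (fun s => ?_)
    (fun s => toUnit_unique _ _) (fun s m h1 _ => ?_))
  · have h := s.condition
    rw [MonObj.comp_mul, GrpObj.comp_inv, toUnit_unique s.snd (toUnit _), ← Hom.one_def,
      inv_mul_eq_one] at h
    refine CartesianMonoidalCategory.hom_ext _ _ (by simp) ?_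
    simpa using h
  · rw [← h1]; simp

/-- The unit is the base change of the diagonal. -/
theorem isPullback_unit :
    IsPullback η[G] η[G] (lift (𝟙 G) (1 : G ⟶ G)) (lift (𝟙 G) (𝟙 G)) := by
  have hw : η[G] ≫ lift (𝟙 G) (1 : G ⟶ G) = η[G] ≫ lift (𝟙 G) (𝟙 G) := by
    refine CartesianMonoidalCategory.hom_ext _ _ (by simp) ?_
    simp only [Category.assoc, lift_snd, Category.comp_id, MonObj.comp_one, Hom.one_def]
    rw [← Category.assoc, toUnit_unique (η[G] ≫ toUnit G) (𝟙 _), Category.id_comp]
  refine IsPullback.of_isLimit' ⟨hw⟩ (PullbackCone.IsLimit.mk _ (fun s => toUnit _) (fun s => ?_)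
    (fun s => ?_) (fun s m _ _ => toUnit_unique _ _))
  · have h1 := congrArg (· ≫ fst G G) s.condition
    have h2 := congrArg (· ≫ snd G G) s.condition
    simp only [Category.assoc, lift_fst, lift_snd, Category.comp_id, MonObj.comp_one] at h1 h2
    exact (Hom.one_def).symm.trans (h2.trans h1.symm)
  · have h2 := congrArg (· ≫ snd G G) s.condition
    simp only [Category.assoc, lift_snd, Category.comp_id, MonObj.comp_one] at h2
    exact (Hom.one_def).symm.trans h2

end Cat

section Scheme

variable {S : Scheme.{u}} {G : Over S} [GrpObj G]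

theorem diag_left : (lift (𝟙 G) (𝟙 G)).left = pullback.diagonal G.hom := by
  refine pullback.hom_ext ?_ ?_
  · rw [pullback.diagonal_fst]
    exact congrArg CommaMorphism.left (lift_fst (𝟙 G) (𝟙 G))
  · rw [pullback.diagonal_snd]
    exact congrArg CommaMorphism.left (lift_snd (𝟙 G) (𝟙 G))

theorem diagonal_iff_unit (P : MorphismProperty Scheme.{u}) [P.IsStableUnderBaseChange] :
    P (pullback.diagonal G.hom) ↔ P η[G].left := by
  constructor
  · intro h
    exact P.of_isPullback ((isPullback_unit (G := G)).map (Over.forget S)).flip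
      (by rw [show (Over.forget S).map (lift (𝟙 G) (𝟙 G)) = _ from diag_left]; exact h)
  · intro h
    have := P.of_isPullback ((isPullback_diag (G := G)).map (Over.forget S)).flip h
    rw [show (Over.forget S).map (lift (𝟙 G) (𝟙 G)) = _ from diag_left] at this
    exact this

end Scheme

end Groth.Agent.GrpSchLib
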