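import Groth.Agent.GrpSchLib.Immersion

/-! The open closed subgroup generated by an affine neighbourhood of the unit. -/

set_option autoImplicit false
universe u

open CategoryTheory MonoidalCategory CartesianMonoidalCategory MonObj AlgebraicGeometry Limits

noncomputable section

namespace Groth.Agent.GrpSchLib

variable {K : Type u} [Field K] {G : Over (Spec (CommRingCat.of K))} [GrpObj G]

theorem isCompact_mulPreimage {A B : Set G.left} (hA : IsOpen A) (hAc : IsCompact A) (hB : IsOpen B) (hBc : IsCompact B) :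
    IsCompact ((fst G G).left ⁻¹' A ∩ (snd G G).left ⁻¹' B) := by
  let A' : G.left.Opens := ⟨A, hA⟩
  let B' : G.left.Opens := ⟨B, hB⟩
  haveI : CompactSpace A' := isCompact_iff_compactSpace.mp hAc
  haveI : CompactSpace B' := isCompact_iff_compactSpace.mp hBc
  haveI : QuasiCompact (B'.ι ≫ G.hom) := inferInstance
  haveI : CompactSpace ↥(pullback (A'.ι ≫ G.hom) (B'.ι ≫ G.hom)) :=
    QuasiCompact.compactSpace_of_compactSpace (pullback.fst (A'.ι ≫ G.hom) (B'.ι ≫ G.hom))
  have hr : (fst G G).left ⁻¹' A ∩ (snd G G).left ⁻¹' B = Set.range (pullback.map (A'.ι ≫ G.hom) (B'.ι ≫ G.hom)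
      G.hom G.hom A'.ι B'.ι (𝟙 _) (by simp) (by simp)) := by
    rw [Scheme.Pullback.range_map, Scheme.Opens.range_ι, Scheme.Opens.range_ι]
    rfl
  rw [hr]
  exact isCompact_range (Scheme.Hom.continuous _)

theorem mem_closure_mul_inv {W : Set G.left} (hW : IsOpen W) (heW : unitPt G ∈ W)
    (hmul : ∀ {T : Over (Spec (CommRingCat.of K))} (u v : T ⟶ G) (t : T.left), u.left t ∈ W → v.left t ∈ W →
      (u * v).left t ∈ W) : IsClosed W := by
  refine isClosed_of_closure_subset fun z hz => ?_
  let T := ptObj z ⊗ G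
  let g : T ⟶ G := snd _ _
  let F : T ⟶ G := (fst _ _ ≫ ptHom z) * g⁻¹
  obtain ⟨t⟩ : Nonempty (ptObj z).left := inferInstance
  let d : ptObj z ⟶ T := lift (𝟙 _) (ptHom z)
  have hd : d ≫ F = 1 := by
    rw [MonObj.comp_mul, GrpObj.comp_inv, ← Category.assoc, lift_fst, lift_snd, Category.id_comp, mul_inv_cancel]
  have hFd : F.left (d.left t) ∈ W := by
    rw [← Scheme.Hom.comp_apply, ← Over.comp_left, hd, one_apply]
    exact heW
  have hgd : g.left (d.left t) ∈ closure W := by
    rw [← Scheme.Hom.comp_apply, ← Over.comp_left, lift_snd, ptHom_apply]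
    exact hz
  obtain ⟨w, hwW, hwA⟩ := mem_closure_iff.mp (mem_closure_snd_preimage (ptObj z) (d.left t) hgd)
    (F.left ⁻¹' W) (hW.preimage F.left.continuous) hFd
  have h := hmul F g w hwW hwA
  rw [show F * g = fst (ptObj z) G ≫ ptHom z from inv_mul_cancel_right _ _] at h
  rwa [show (fst (ptObj z) G ≫ ptHom z).left w = z from ptHom_apply z _] at h

variable (G) in
/-- The powers of a neighbourhood of the unit. -/
def genStep (U : Set G.left) : ℕ → Set G.left
  | 0 => U
  | n + 1 => genStep U n ∪ (invM G).left ⁻¹' genStep U n ∪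
      μ[G].left '' ((fst G G).left ⁻¹' genStep U n ∩ (snd G G).left ⁻¹' genStep U n)

theorem genStep_mono (U : Set G.left) : Monotone (genStep G U) :=
  monotone_nat_of_le_succ fun _ => Set.subset_union_left.trans Set.subset_union_left

theorem isOpen_genStep {U : Set G.left} (hU : IsOpen U) (n : ℕ) : IsOpen (genStep G U n) := by
  induction n with
  | zero => exact hU
  | succ n ih =>
    exact (ih.union (ih.preimage (invM G).left.continuous)).union
      (isOpenMap_mul _ ((ih.preimage (fst G G).left.continuous).inter (ih.preimage (snd G G).left.continuous)))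

theorem isCompact_genStep {U : Set G.left} (hU : IsOpen U) (hUc : IsCompact U) (n : ℕ) :
    IsCompact (genStep G U n) := by
  induction n with
  | zero => exact hUc
  | succ n ih =>
    have hinv : (invM G).left ⁻¹' genStep G U n = (invM G).left '' genStep G U n := by
      ext x
      refine ⟨fun hx => ⟨_, hx, invM_invM x⟩, ?_⟩
      rintro ⟨y, hy, rfl⟩
      rw [Set.mem_preimage, invM_invM]
      exact hy
    refine (ih.union (hinv ▸ ih.image (invM G).left.continuous)).union ?_
    exact (isCompact_mulPreimage (isOpen_genStep hU n) ih (isOpen_genStep hU n) ih).image μ[G].left.continuous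

theorem exists_clopen_countable_affine (K : Type u) [Field K] (G : Over (Spec (CommRingCat.of K))) [GrpObj G] :
    ∃ U : G.left.Opens, IsClosed (U : Set G.left) ∧ unitPt G ∈ U ∧
      ∃ V : ℕ → G.left.Opens, (∀ n, IsAffineOpen (V n)) ∧ (U : Set G.left) = ⋃ n, (V n : Set G.left) := by
  obtain ⟨U₀, hU₀, heU, -⟩ := exists_isAffineOpen_mem_and_subset (X := G.left) (x := unitPt G) (U := ⊤) trivial
  let W : G.left.Opens := ⟨⋃ n, genStep G (U₀ : Set G.left) n, isOpen_iUnion fun n => isOpen_genStep U₀.2 n⟩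
  have hmul : ∀ {T : Over (Spec (CommRingCat.of K))} (u v : T ⟶ G) (t : T.left),
      u.left t ∈ (W : Set G.left) → v.left t ∈ (W : Set G.left) → (u * v).left t ∈ (W : Set G.left) := by
    intro T u v t hu hv
    obtain ⟨m, hm⟩ := Set.mem_iUnion.mp hu
    obtain ⟨n, hn⟩ := Set.mem_iUnion.mp hv
    refine Set.mem_iUnion.mpr ⟨max m n + 1, .inr ⟨(lift u v).left t, ⟨?_, ?_⟩, ?_⟩⟩
    · rw [Set.mem_preimage, ← Scheme.Hom.comp_apply, ← Over.comp_left, lift_fst]
      exact genStep_mono _ (le_max_left m n) hm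
    · rw [Set.mem_preimage, ← Scheme.Hom.comp_apply, ← Over.comp_left, lift_snd]
      exact genStep_mono _ (le_max_right m n) hn
    · rw [Hom.mul_def, Over.comp_left, Scheme.Hom.comp_apply]
  have heW : unitPt G ∈ (W : Set G.left) := Set.mem_iUnion.mpr ⟨0, heU⟩
  refine ⟨W, mem_closure_mul_inv W.2 heW hmul, heW, ?_⟩
  have hfin : ∀ n, ∃ s : Set G.left.affineOpens, s.Finite ∧ genStep G (U₀ : Set G.left) n = ⋃ i ∈ s, (i : Set G.left) :=
    fun n => isCompact_and_isOpen_iff_finite_and_eq_biUnion_affineOpens.mp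
      ⟨isCompact_genStep U₀.2 hU₀.isCompact n, isOpen_genStep U₀.2 n⟩
  choose s hs hseq using hfin
  let T : Set G.left.affineOpens := ⋃ n, s n
  haveI : Countable T := (Set.countable_iUnion fun n => (hs n).countable).to_subtype
  haveI : Nonempty T := by
    have h0 := hseq 0 ▸ (show unitPt G ∈ genStep G (U₀ : Set G.left) 0 from heU)
    obtain ⟨i, hi, -⟩ := Set.mem_iUnion₂.mp h0
    exact ⟨⟨i, Set.mem_iUnion.mpr ⟨0, hi⟩⟩⟩
  obtain ⟨f, hf⟩ := exists_surjective_nat T
  refine ⟨fun n => ((f n : G.left.affineOpens) : G.left.Opens), fun n => (f n : G.left.affineOpens).2, ?_⟩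
  ext x
  simp only [W, TopologicalSpace.Opens.coe_mk, Set.mem_iUnion]
  constructor
  · rintro ⟨n, hn⟩
    rw [hseq n] at hn
    obtain ⟨i, hi, hxi⟩ := Set.mem_iUnion₂.mp hn
    obtain ⟨m, hm⟩ := hf ⟨i, Set.mem_iUnion.mpr ⟨n, hi⟩⟩
    exact ⟨m, by rw [hm]; exact hxi⟩
  · rintro ⟨m, hm⟩
    obtain ⟨n, hn⟩ := Set.mem_iUnion.mp (f m).2
    exact ⟨n, hseq n ▸ Set.mem_biUnion hn hm⟩

end Groth.Agent.GrpSchLib
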