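import Groth.Agent.GrpSchLib.DimLie
import Groth.Agent.GeomIrred.CurvPoint

/-! Group schemes with zero tangent space over an algebraically closed field are discrete. -/

set_option autoImplicit false
universe u

open CategoryTheory CategoryTheory.Limits AlgebraicGeometry MonObj MonoidalCategory CartesianMonoidalCategory IsLocalRing

noncomputable section

namespace Groth.Agent.GrpSchLib

variable {K : Type u} [Field K]

theorem exists_iso_apply [IsAlgClosed K] {X : Scheme.{u}} (f : X ⟶ Spec (CommRingCat.of K))
    [LocallyOfFiniteType f] [GrpObj (Over.mk f)] {x y : X} (hx : IsClosed ({x} : Set X))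
    (hy : IsClosed ({y} : Set X)) : ∃ α : X ⟶ X, IsIso α ∧ α x = y := by
  haveI := LocallyOfFiniteType.jacobsonSpace f
  let x' : 𝟙_ _ ⟶ Over.mk f := Over.homMk _ ((pointEquivClosedPoint f).symm ⟨x, hx⟩).2
  let y' : 𝟙_ _ ⟶ Over.mk f := Over.homMk _ ((pointEquivClosedPoint f).symm ⟨y, hy⟩).2
  let α := (GrpObj.mulRight (A := Over.mk f) x').symm ≪≫
    (GrpObj.mulRight (A := Over.mk f) y')
  have hα : x' ≫ α.hom = y' := by
    dsimp only [Iso.trans_hom, Iso.symm_hom, α]
    rw [← Category.assoc, ← Iso.eq_comp_inv]
    simp [comp_lift_assoc]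
  refine ⟨α.hom.left, inferInstanceAs (IsIso ((Over.forget _).map α.hom)), ?_⟩
  have e := congr(($hα).left (IsLocalRing.closedPoint K))
  have ex : x'.left (IsLocalRing.closedPoint K) = x :=
    congrArg Subtype.val ((pointEquivClosedPoint f).apply_symm_apply ⟨x, hx⟩)
  have ey : y'.left (IsLocalRing.closedPoint K) = y :=
    congrArg Subtype.val ((pointEquivClosedPoint f).apply_symm_apply ⟨y, hy⟩)
  exact (congrArg _ ex).symm.trans (e.trans ey)

theorem bijective_stalkMap_of_isField [IsAlgClosed K] (X : Scheme.{u}) [X.Over (Spec (CommRingCat.of K))]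
    [LocallyOfFiniteType (X ↘ Spec (CommRingCat.of K))] (x : X) (hx : IsClosed ({x} : Set X))
    (h : maximalIdeal (X.presheaf.stalk x) = ⊥) : Function.Bijective (Curv2.stalkMap K X x) := by
  haveI := LocallyOfFiniteType.jacobsonSpace (X ↘ Spec (CommRingCat.of K))
  have e : CommRingCat.ofHom (Curv2.resMap K X x) = (residueFieldIsoBase (X ↘ Spec (CommRingCat.of K)) x hx).inv :=
    Spec.map_injective ((GeomIrred.spec_resMap K X x).trans
      (SpecMap_residueFieldIsoBase_inv (X ↘ Spec (CommRingCat.of K)) x hx).symm)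
  have hb : Function.Bijective (Curv2.resMap K X x) := by
    have := ConcreteCategory.bijective_of_isIso (residueFieldIsoBase (X ↘ Spec (CommRingCat.of K)) x hx).inv
    rwa [← e] at this
  have hinj : Function.Injective (residue (X.presheaf.stalk x)) := by
    rw [RingHom.injective_iff_ker_eq_bot, ker_residue, h]
  refine ⟨(Curv2.stalkMap K X x).injective, fun a => ?_⟩
  obtain ⟨c, hc⟩ := hb.2 (residue _ a)
  exact ⟨c, hinj hc⟩

variable (G : Over (Spec (CommRingCat.of K))) [GrpObj G] [LocallyOfFiniteType G.hom]

theorem isClosed_of_dim_zero (h : topologicalKrullDim G.left = 0) (g : G.left) : IsClosed ({g} : Set G.left) := by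
  letI : PartialOrder G.left := specializationOrder _
  haveI : Nonempty G.left := ⟨unitPt G⟩
  rw [ASp.topologicalKrullDim_eq_krullDim] at h
  refine isClosed_of_closure_subset fun z hz => ?_
  have hle : z ≤ g := specializes_iff_mem_closure.2 hz
  by_contra hne
  exact (Order.krullDim_pos_iff.2 ⟨z, g, lt_of_le_of_ne hle hne⟩).ne' h

theorem discrete_of_cotangent_zero [IsAlgClosed K] [QuasiCompact G.hom]
    (h : Subsingleton (CotangentSpace (G.left.presheaf.stalk (unitPt G)))) :
    Finite G.left ∧ DiscreteTopology G.left ∧ ∀ g : G.left, maximalIdeal (G.left.presheaf.stalk g) = ⊥ ∧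
      IsClosed ({g} : Set G.left) := by
  haveI : IsLocallyNoetherian G.left := LocallyOfFiniteType.isLocallyNoetherian G.hom
  have h0 : (maximalIdeal (G.left.presheaf.stalk (unitPt G))).spanFinrank = 0 := by
    rw [spanFinrank_maximalIdeal_eq_finrank_cotangentSpace]; exact Module.finrank_zero_of_subsingleton
  have hm : maximalIdeal (G.left.presheaf.stalk (unitPt G)) = ⊥ :=
    (Submodule.spanFinrank_eq_zero_iff_eq_bot (IsNoetherian.noetherian _)).1 h0
  haveI : Nonempty G.left := ⟨unitPt G⟩
  have hd : topologicalKrullDim G.left = 0 := by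
    refine le_antisymm ((dim_le_spanFinrank G).trans (by rw [h0]; rfl)) ?_
    rw [← ringKrullDim_stalk_eq_topologicalKrullDim G _ isClosed_unitPt]
    exact ringKrullDim_nonneg_of_nontrivial
  have hcl := isClosed_of_dim_zero G hd
  haveI : CompactSpace G.left := QuasiCompact.compactSpace_of_compactSpace G.hom
  haveI : IsNoetherian G.left := ⟨⟩
  have hfin : Finite G.left := by
    have hf := TopologicalSpace.NoetherianSpace.finite_irreducibleComponents (α := G.left)
    haveI := hf.to_subtype
    refine Finite.of_injective (fun g : G.left => (⟨{g}, ⟨isIrreducible_singleton, fun T hT hgT z hz => ?_⟩⟩ :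
      irreducibleComponents G.left)) fun g g' e => Set.singleton_injective (congrArg Subtype.val e)
    · obtain ⟨ξ, hξ⟩ := QuasiSober.sober hT.closure isClosed_closure
      have hT' : closure T = {ξ} := by rw [← hξ.def, (hcl ξ).closure_eq]
      have hz' := subset_closure hz
      have hg' := subset_closure (hgT rfl)
      rw [hT', Set.mem_singleton_iff] at hz' hg'
      exact hz'.trans hg'.symm
  haveI : T1Space G.left := ⟨hcl⟩
  refine ⟨hfin, inferInstance, fun g => ⟨?_, hcl g⟩⟩
  haveI : GrpObj (Over.mk G.hom) := ‹GrpObj G›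
  obtain ⟨α, hα, e⟩ := exists_iso_apply G.hom (hcl g) isClosed_unitPt
  haveI := hα
  have hF : IsField (G.left.presheaf.stalk (α g)) := by rw [e]; exact isField_iff_maximalIdeal_eq.2 hm
  exact isField_iff_maximalIdeal_eq.1
    ((asIso (α.stalkMap g)).commRingCatIsoToRingEquiv.symm.toMulEquiv.isField hF)

end Groth.Agent.GrpSchLib
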