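import Mathlib

/-! Enough derivations at a rational point kill nilpotents nearby in characteristic zero. -/

set_option autoImplicit false
universe u

open MvPolynomial

noncomputable section

namespace Groth.Agent.GrpSchLib

variable {K : Type u} [Field K] {A : Type u} [CommRing A] [Algebra K A] (e : A →ₐ[K] K)

/-- The maximal ideal of a rational point. -/
abbrev pIdeal : Ideal A := RingHom.ker e

theorem sub_mem_pIdeal (a : A) : a - algebraMap K A (e a) ∈ pIdeal e := by
  simp [RingHom.mem_ker]

theorem derivation_pow_mem {D : Derivation K A A} (I : Ideal A) :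
    ∀ (n : ℕ) (a : A), a ∈ I ^ (n + 1) → D a ∈ I ^ n := by
  intro n
  induction n with
  | zero => intro a _; simp
  | succ n ih =>
    intro a ha
    rw [pow_succ I (n + 1)] at ha
    induction ha using Submodule.mul_induction_on' with
    | mem_mul_mem p hp q hq =>
      rw [Derivation.leibniz, smul_eq_mul, smul_eq_mul]
      refine add_mem (Ideal.mul_mem_right _ _ hp) ?_
      rw [pow_succ' I n]
      exact Ideal.mul_mem_mul hq (ih p hp)
    | add p _ q _ hp hq => rw [map_add]; exact add_mem hp hq

theorem derivation_aeval {σ : Type*} [Fintype σ] (D : Derivation K A A) (x : σ → A) (P : MvPolynomial σ K) :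
    D (aeval x P) = ∑ i, aeval x (pderiv i P) * D (x i) := by
  classical
  induction P using MvPolynomial.induction_on with
  | C c => simp
  | add p q hp hq => simp [hp, hq, add_mul, Finset.sum_add_distrib]
  | mul_X p j hp =>
    simp only [map_mul, aeval_X, Derivation.leibniz, hp, smul_eq_mul, map_add, add_mul, Finset.sum_add_distrib]
    simp only [pderiv_X, Pi.single_apply, Finset.mul_sum]
    rw [add_comm, Finset.sum_congr rfl fun i _ => show x j * (aeval x (pderiv i p) * D (x i)) =
      x j * aeval x (pderiv i p) * D (x i) by ring]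
    simp [mul_comm, mul_left_comm, mul_assoc, Finset.sum_ite_eq']
    ring

theorem aeval_mem_pow {σ : Type} (x : σ → A) (hx : ∀ i, x i ∈ pIdeal e) {d : ℕ} {P : MvPolynomial σ K}
    (hP : P.IsHomogeneous d) : aeval x P ∈ pIdeal e ^ d := by
  classical
  rw [P.as_sum, map_sum]
  refine sum_mem fun s hs => ?_
  rw [aeval_monomial]
  refine Ideal.mul_mem_left _ _ ?_
  have hdeg : s.degree = d := by
    have := hP (mem_support_iff.mp hs)
    rw [Finsupp.degree_eq_weight_one]; exact this
  rw [← hdeg, Finsupp.degree_apply, ← Finset.prod_pow_eq_pow_sum]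
  exact Ideal.prod_mem_prod fun i _ => Ideal.pow_mem_pow (hx i) _

theorem eq_zero_of_aeval_mem [CharZero K] {σ : Type} [Fintype σ] [DecidableEq σ] (x : σ → A) (D : σ → Derivation K A A)
    (hD : ∀ i j, D i (x j) - algebraMap K A (if i = j then 1 else 0) ∈ pIdeal e)
    (hx : ∀ i, x i ∈ pIdeal e) :
    ∀ (d : ℕ) (P : MvPolynomial σ K), P.IsHomogeneous d → aeval x P ∈ pIdeal e ^ (d + 1) → P = 0 := by
  intro d
  induction d with
  | zero =>
    intro P hP h
    obtain ⟨c, rfl⟩ : ∃ c, P = C c :=
      ⟨coeff 0 P, totalDegree_eq_zero_iff_eq_C.mp (Nat.le_zero.mp hP.totalDegree_le)⟩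
    rw [aeval_C, pow_one, RingHom.mem_ker, AlgHom.commutes] at h
    simp [show c = 0 from h]
  | succ d ih =>
    intro P hP h
    have hd : ∀ i, pderiv i P = 0 := by
      intro i
      refine ih _ (by simpa using hP.pderiv (i := i)) ?_
      have h1 := derivation_pow_mem (D := D i) (pIdeal e) (d + 1) _ h
      rw [derivation_aeval] at h1
      have hsum : ∑ j, aeval x (pderiv j P) * (D i (x j) - algebraMap K A (if i = j then 1 else 0)) ∈
          pIdeal e ^ (d + 1) := by
        refine sum_mem fun j _ => ?_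
        rw [pow_succ]
        exact Ideal.mul_mem_mul (aeval_mem_pow e x hx (by simpa using hP.pderiv (i := j))) (hD i j)
      have h2 := sub_mem h1 hsum
      simpa [mul_sub, Finset.sum_sub_distrib, Finset.sum_ite_eq] using h2
    have h2 := hP.sum_X_mul_pderiv
    simp only [hd, mul_zero, Finset.sum_const_zero] at h2
    rw [← Nat.cast_smul_eq_nsmul K] at h2
    exact (smul_eq_zero.mp h2.symm).resolve_left (by exact_mod_cast Nat.succ_ne_zero d)

/-- Dual coordinates at a rational point. -/
theorem exists_coords [Algebra.FiniteType K A] :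
    ∃ (n : ℕ) (x : Fin n → A) (f : Fin n → A →ₗ[K] K), (∀ i, x i ∈ pIdeal e) ∧
      (∀ i a b, f i (a * b) = e a * f i b + e b * f i a) ∧ (∀ i j, f i (x j) = if i = j then 1 else 0) ∧
      ∀ a ∈ pIdeal e, ∃ c : Fin n → K, a - ∑ j, c j • x j ∈ pIdeal e ^ 2 := by
  classical
  haveI : IsNoetherianRing A := Algebra.FiniteType.isNoetherianRing K A
  obtain ⟨s, hs⟩ := IsNoetherian.noetherian (pIdeal e)
  let W : Submodule K A := (pIdeal e ^ 2).restrictScalars K
  let pr : A →ₗ[K] A ⧸ W := W.mkQ
  let P : A →ₗ[K] A := LinearMap.id - (Algebra.linearMap K A) ∘ₗ e.toLinearMap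
  obtain ⟨b, hbt, hbs, hbi⟩ := exists_linearIndependent K (pr '' (s : Set A))
  have : Finite b := (s.finite_toSet.image pr).subset hbt |>.to_subtype
  obtain ⟨n, ⟨g⟩⟩ := Finite.exists_equiv_fin b
  have hpre : ∀ i, ∃ a ∈ s, pr a = (g.symm i : A ⧸ W) := fun i => hbt (g.symm i).2
  choose x hxs hxp using hpre
  have hxm : ∀ i, x i ∈ pIdeal e := fun i => hs ▸ Submodule.subset_span (hxs i)
  have hli : LinearIndependent K fun i => pr (x i) := by
    simp only [hxp]; exact hbi.comp _ g.symm.injective
  obtain ⟨L, hL⟩ := (Finsupp.linearCombination K fun i => pr (x i)).exists_leftInverse_of_injective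
    (LinearMap.ker_eq_bot.mpr hli)
  refine ⟨n, x, fun i => Finsupp.lapply i ∘ₗ L ∘ₗ pr ∘ₗ P, hxm, fun i a b' => ?_, fun i j => ?_, fun a ha => ?_⟩
  · have h0 : pr (P (a * b')) = pr (e a • P b' + e b' • P a) := by
      refine (Submodule.Quotient.eq W).mpr ?_
      show _ ∈ pIdeal e ^ 2
      rw [show P (a * b') - (e a • P b' + e b' • P a) =
        (a - algebraMap K A (e a)) * (b' - algebraMap K A (e b')) by simp [P, Algebra.smul_def]; ring, pow_two]
      exact Ideal.mul_mem_mul (sub_mem_pIdeal e a) (sub_mem_pIdeal e b')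
    simp [h0]
  · have h1 : pr (P (x j)) = pr (x j) := by
      simp [P, show e (x j) = 0 from hxm j]
    have h2 := LinearMap.congr_fun hL (Finsupp.single j 1)
    simp only [LinearMap.comp_apply, Finsupp.linearCombination_single, one_smul, LinearMap.id_apply] at h2
    simp [h1, h2, Finsupp.single_apply, eq_comm]
  · have hspan : pr a ∈ Submodule.span K (Set.range fun i => pr (x i)) := by
      have hr : Set.range (fun i => pr (x i)) = b := by
        ext y
        simp only [hxp, Set.mem_range]
        exact ⟨fun ⟨i, hi⟩ => hi ▸ (g.symm i).2, fun hy => ⟨g ⟨y, hy⟩, by simp⟩⟩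
      rw [hr, hbs]
      rw [← hs] at ha
      induction ha using Submodule.span_induction with
      | mem y hy => exact Submodule.subset_span ⟨y, hy, rfl⟩
      | zero => simp
      | add y z _ _ hy hz => rw [map_add]; exact add_mem hy hz
      | smul c y hy' hy =>
        have h3 : pr (c • y) = e c • pr y := by
          rw [← map_smul]
          refine (Submodule.Quotient.eq W).mpr ?_
          show _ ∈ pIdeal e ^ 2
          rw [show c • y - e c • y = (c - algebraMap K A (e c)) * y by simp [Algebra.smul_def]; ring, pow_two]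
          exact Ideal.mul_mem_mul (sub_mem_pIdeal e c) (hs ▸ hy')
        rw [h3]; exact Submodule.smul_mem _ _ hy
    obtain ⟨c, hc⟩ := (Submodule.mem_span_range_iff_exists_fun K).mp hspan
    refine ⟨c, (Submodule.Quotient.eq W).mp ?_⟩
    show pr a = pr _
    rw [← hc]; simp

/-- Nilpotents vanish near a rational point with enough derivations. -/
theorem exists_smul_nilradical_eq_zero [CharZero K] [Algebra.FiniteType K A]
    (hder : ∀ v : A →ₗ[K] K, (∀ a b, v (a * b) = e a * v b + e b * v a) →
      ∃ D : Derivation K A A, ∀ a, e (D a) = v a) :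
    ∃ s ∉ pIdeal e, ∀ a, IsNilpotent a → s * a = 0 := by
  classical
  haveI : IsNoetherianRing A := Algebra.FiniteType.isNoetherianRing K A
  obtain ⟨n, x, f, hx, hfd, hfx, hgen⟩ := exists_coords e
  choose D hD using fun i => hder (f i) (hfd i)
  have hDx : ∀ i j, D i (x j) - algebraMap K A (if i = j then 1 else 0) ∈ pIdeal e := by
    intro i j
    rw [RingHom.mem_ker, map_sub, hD, hfx, AlgHom.commutes, Algebra.algebraMap_self, RingHom.id_apply, sub_self]
  have surj : ∀ d, ∀ a ∈ pIdeal e ^ d, ∃ P : MvPolynomial (Fin n) K,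
      P.IsHomogeneous d ∧ a - aeval x P ∈ pIdeal e ^ (d + 1) := by
    intro d
    induction d with
    | zero => exact fun a _ => ⟨C (e a), isHomogeneous_C _ _, by simpa [pow_one] using sub_mem_pIdeal e a⟩
    | succ d ih =>
      intro a ha
      rw [pow_succ] at ha
      induction ha using Submodule.mul_induction_on' with
      | mem_mul_mem p hp q hq =>
        obtain ⟨P, hP, hPp⟩ := ih p hp
        obtain ⟨c, hc⟩ := hgen q hq
        refine ⟨P * ∑ j, C (c j) * X j, hP.mul (IsHomogeneous.sum _ _ _ fun j _ => by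
          simpa using (isHomogeneous_C (Fin n) (c j)).mul (isHomogeneous_X K j)), ?_⟩
        have e1 : aeval x (∑ j, C (c j) * X j) = ∑ j, c j • x j := by simp [Algebra.smul_def]
        rw [map_mul, e1, show p * q - aeval x P * ∑ j, c j • x j =
          (p - aeval x P) * q + aeval x P * (q - ∑ j, c j • x j) by ring]
        refine add_mem ?_ ?_
        · rw [pow_succ _ (d + 1)]
          exact Ideal.mul_mem_mul hPp hq
        · rw [show d + 1 + 1 = d + 2 from rfl, pow_add]
          exact Ideal.mul_mem_mul (aeval_mem_pow e x hx hP) hc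
      | add p _ q _ hp hq =>
        obtain ⟨P, hP, hPp⟩ := hp
        obtain ⟨Q, hQ, hQq⟩ := hq
        exact ⟨P + Q, hP.add hQ, by rw [map_add, add_sub_add_comm]; exact add_mem hPp hQq⟩
  have hnil : ∀ a : A, IsNilpotent a → ∀ d, a ∈ pIdeal e ^ d := by
    rintro a ⟨N, hN⟩ d
    induction d with
    | zero => simp
    | succ d ih =>
      obtain ⟨P, hP, hPa⟩ := surj d a ih
      have hP0 : P = 0 := by
        refine eq_zero_of_pow_eq_zero (n := N + 1) ?_
        refine eq_zero_of_aeval_mem e x D hDx hx _ _ (hP.pow (N + 1)) ?_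
        rw [map_pow, show aeval x P ^ (N + 1) = -(a ^ (N + 1) - aeval x P ^ (N + 1)) by simp [pow_succ, hN],
          neg_mem_iff, ← geom_sum₂_mul a (aeval x P) (N + 1), mul_comm,
          show (N + 1) * d + 1 = (d + 1) + d * N by ring, pow_add]
        rw [mul_comm (pIdeal e ^ (d + 1))]
        refine Ideal.mul_mem_mul (sum_mem fun i hi => ?_) hPa
        have hi' : i + (N - i) = N := Nat.add_sub_cancel' (Nat.lt_succ_iff.mp (Finset.mem_range.mp hi))
        rw [show N + 1 - 1 - i = N - i by omega, show d * N = d * i + d * (N - i) by rw [← mul_add, hi'], pow_add,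
          pow_mul, pow_mul]
        exact Ideal.mul_mem_mul (Ideal.pow_mem_pow ih i)
          (Ideal.pow_mem_pow (aeval_mem_pow e x hx hP) _)
      simpa [hP0] using hPa
  have hone : ∀ a : A, IsNilpotent a → ∃ s ∉ pIdeal e, s * a = 0 := by
    intro a ha
    have hmem : a ∈ (⨅ i : ℕ, pIdeal e ^ i • ⊤ : Submodule A A) := by
      simp only [Submodule.mem_iInf, smul_eq_mul, Ideal.mul_top]
      exact hnil a ha
    obtain ⟨r, hr⟩ := ((pIdeal e).mem_iInf_smul_pow_eq_bot_iff a).mp hmem
    refine ⟨1 - r, ?_, by rw [sub_mul, one_mul, ← smul_eq_mul, hr, sub_self]⟩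
    simp [RingHom.mem_ker, show e r = 0 from r.2]
  obtain ⟨t, ht⟩ := IsNoetherian.noetherian (nilradical A)
  choose! S hS1 hS2 using hone
  refine ⟨∏ a ∈ t, S a, fun h => ?_, fun a ha => ?_⟩
  · have hp : (pIdeal e).IsPrime := RingHom.ker_isPrime _
    obtain ⟨b, hb, hbm⟩ := Ideal.IsPrime.prod_mem_iff.mp h
    exact hS1 b (ht ▸ Submodule.subset_span hb : b ∈ nilradical A) hbm
  · have ha' : a ∈ Submodule.span A (t : Set A) := ht ▸ (show a ∈ nilradical A from ha)
    clear ha
    induction ha' using Submodule.span_induction with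
    | mem y hy =>
      rw [← Finset.prod_erase_mul t S hy, mul_assoc, hS2 y (ht ▸ Submodule.subset_span hy : y ∈ nilradical A), mul_zero]
    | zero => simp
    | add y z _ _ hy hz =>
      rw [mul_add, hy, hz, add_zero]
    | smul c y _ hy => rw [smul_eq_mul, mul_left_comm, hy, mul_zero]

end Groth.Agent.GrpSchLib
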