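import Groth.Agent.GrpSchLib.Component

/-! Components of group schemes locally of finite type are open; finitely many closed points lie in an
affine open. -/

set_option autoImplicit false
universe u

open CategoryTheory MonoidalCategory CartesianMonoidalCategory MonObj AlgebraicGeometry Limits

noncomputable section

namespace Groth.Agent.GrpSchLib

variable {K : Type u} [Field K] {G : Over (Spec (CommRingCat.of K))} [GrpObj G]

theorem isOpen_irreducibleComponent [LocallyOfFiniteType G.hom] (x : G.left) : IsOpen (irreducibleComponent x) := by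
  haveI : IsLocallyNoetherian G.left := LocallyOfFiniteType.isLocallyNoetherian G.hom
  refine isOpen_iff_forall_mem_open.mpr fun y hy => ?_
  obtain ⟨V, hV, hyV, -⟩ := exists_isAffineOpen_mem_and_subset (X := G.left) (x := y) (U := ⊤) trivial
  haveI : IsAffine (V : Scheme) := hV
  haveI : IsNoetherianRing Γ(G.left, V) := IsLocallyNoetherian.component_noetherian ⟨V, hV⟩
  haveI : TopologicalSpace.NoetherianSpace ↥(V : Scheme) := noetherianSpace_of_isAffineOpen V hV
  let bad : Set (Set ↥(V : Scheme)) :=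
    {D ∈ irreducibleComponents ↥(V : Scheme) | ¬ V.ι '' D ⊆ irreducibleComponent x}
  have hfin : bad.Finite :=
    TopologicalSpace.NoetherianSpace.finite_irreducibleComponents.subset fun D hD => hD.1
  have hclosed : IsClosed (⋃₀ bad) := by
    rw [Set.sUnion_eq_biUnion]
    exact hfin.isClosed_biUnion fun D hD => isClosed_of_mem_irreducibleComponents _ hD.1
  obtain ⟨y', rfl⟩ : y ∈ Set.range V.ι := by rw [Scheme.Opens.range_ι]; exact hyV
  refine ⟨V.ι '' (⋃₀ bad)ᶜ, ?_, V.ι.isOpenEmbedding.isOpenMap _ hclosed.isOpen_compl, y', ?_, rfl⟩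
  · rintro _ ⟨z, hz, rfl⟩
    by_contra hne
    exact hz ⟨irreducibleComponent z, ⟨irreducibleComponent_mem_irreducibleComponents z,
      fun h => hne (h ⟨z, mem_irreducibleComponent, rfl⟩)⟩, mem_irreducibleComponent⟩
  · rintro ⟨D, ⟨hD, hDx⟩, hyD⟩
    apply hDx
    rw [irreducibleComponent_eq_of_mem hy]
    exact subset_irreducibleComponent (hD.1.image _ V.ι.continuous.continuousOn) ⟨y', hyD, rfl⟩

theorem exists_affine_containing_same_component [IsAlgClosed K] [LocallyOfFiniteType G.hom] {σ : Type} [Finite σ] [Nonempty σ]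
    (g : σ → G.left) (hg : ∀ i, IsClosed ({g i} : Set G.left)) (c : G.left)
    (hc : ∀ i, g i ∈ irreducibleComponent c) :
    ∃ U : G.left.Opens, IsAffineOpen U ∧ (∀ i, g i ∈ U) ∧ (U : Set G.left) ⊆ irreducibleComponent c := by
  haveI := LocallyOfFiniteType.jacobsonSpace G.hom
  obtain ⟨V, hV, hcV, hVsub⟩ := exists_isAffineOpen_mem_and_subset (X := G.left) (x := c)
    (U := ⟨irreducibleComponent c, isOpen_irreducibleComponent c⟩) mem_irreducibleComponent
  let gh : σ → (𝟙_ (Over (Spec (CommRingCat.of K))) ⟶ G) := fun i =>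
    Over.homMk _ ((pointEquivClosedPoint G.hom).symm ⟨g i, hg i⟩).2
  have hgh : ∀ i, (gh i).left (IsLocalRing.closedPoint K) = g i := fun i =>
    congrArg Subtype.val ((pointEquivClosedPoint G.hom).apply_symm_apply ⟨g i, hg i⟩)
  let φ : σ → (G ⟶ G) := fun i => invM G * (toUnit G ≫ gh i)
  let ψ : σ → (G ⟶ G) := fun i => (toUnit G ≫ gh i) * invM G
  have hconst : ∀ (i : σ) (u : G ⟶ G), u ≫ toUnit G ≫ gh i = toUnit G ≫ gh i := fun i u => by
    rw [← Category.assoc, toUnit_unique (u ≫ toUnit G) (toUnit G)]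
  have h12 : ∀ i z, (φ i).left ((ψ i).left z) = z := fun i z => by
    have h : ψ i ≫ φ i = 𝟙 G := by
      rw [MonObj.comp_mul, comp_invM, hconst, mul_inv_rev, show invM G = (𝟙 G)⁻¹ from rfl, inv_inv]
      exact inv_mul_cancel_right _ _
    exact congrArg (fun m : G ⟶ G => m.left z) h
  have h21 : ∀ i z, (ψ i).left ((φ i).left z) = z := fun i z => by
    have h : φ i ≫ ψ i = 𝟙 G := by
      rw [MonObj.comp_mul, comp_invM, hconst, mul_inv_rev, show invM G = (𝟙 G)⁻¹ from rfl, inv_inv]
      exact mul_inv_cancel_left _ _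
    exact congrArg (fun m : G ⟶ G => m.left z) h
  have hφe : ∀ i, (φ i).left (unitPt G) = g i := fun i => by
    have h : η[G] ≫ φ i = gh i := by
      rw [MonObj.comp_mul, comp_invM, ← Category.assoc, toUnit_unique (η[G] ≫ toUnit G) (𝟙 _), Category.id_comp]
      have h1 : η[G] = (1 : 𝟙_ _ ⟶ G) := by rw [Hom.one_def, toUnit_unique (toUnit _) (𝟙 _), Category.id_comp]
      rw [h1, inv_one, _root_.one_mul]
    rw [← hgh i, ← h]
    rfl
  have hne : ∀ i, (idComp G ∩ (φ i).left ⁻¹' (V : Set G.left)).Nonempty := by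
    intro i
    refine ⟨(ψ i).left c, ?_, ?_⟩
    · have hirr : IsIrreducible ((ψ i).left '' irreducibleComponent c) :=
        isIrreducible_irreducibleComponent.image _ (ψ i).left.continuous.continuousOn
      refine subset_irreducibleComponent hirr ⟨g i, hc i, ?_⟩ ⟨c, mem_irreducibleComponent, rfl⟩
      rw [← hφe i, h21]
    · rw [Set.mem_preimage, h12]
      exact hcV
  classical
  haveI := Fintype.ofFinite σ
  have hs : ∀ s : Finset σ, (idComp G ∩ ⋂ i ∈ s, (φ i).left ⁻¹' (V : Set G.left)).Nonempty := by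
    intro s
    induction s using Finset.induction with
    | empty => exact ⟨unitPt G, mem_irreducibleComponent, by simp⟩
    | insert j s hj ih =>
      rw [Finset.set_biInter_insert, Set.inter_comm ((φ j).left ⁻¹' _), ← Set.inter_assoc]
      obtain ⟨z, hz, hz1, hz2⟩ := isIrreducible_irreducibleComponent.2 (⋂ i ∈ s, (φ i).left ⁻¹' (V : Set G.left))
        ((φ j).left ⁻¹' (V : Set G.left)) (isOpen_biInter_finset fun i _ => V.2.preimage (φ i).left.continuous)
        (V.2.preimage (φ j).left.continuous) ih (hne j)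
      exact ⟨z, ⟨hz, hz1⟩, hz2⟩
  obtain ⟨a, ⟨-, ha⟩, hac⟩ := nonempty_inter_closedPoints (hs Finset.univ)
    (((isOpen_irreducibleComponent _).inter (isOpen_biInter_finset fun i _ =>
      V.2.preimage (φ i).left.continuous)).isLocallyClosed)
  let ah : 𝟙_ (Over (Spec (CommRingCat.of K))) ⟶ G :=
    Over.homMk _ ((pointEquivClosedPoint G.hom).symm ⟨a, hac⟩).2
  have hah : ah.left (IsLocalRing.closedPoint K) = a :=
    congrArg Subtype.val ((pointEquivClosedPoint G.hom).apply_symm_apply ⟨a, hac⟩)
  let L : G ⟶ G := (toUnit G ≫ ah)⁻¹ * 𝟙 G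
  haveI : IsIso L := by
    refine ⟨(toUnit G ≫ ah) * 𝟙 G, ?_, ?_⟩
    · rw [MonObj.comp_mul, ← Category.assoc, toUnit_unique (L ≫ toUnit G) (toUnit G), Category.comp_id]
      exact mul_inv_cancel_left _ _
    · rw [MonObj.comp_mul, GrpObj.comp_inv, ← Category.assoc,
        toUnit_unique (((toUnit G ≫ ah) * 𝟙 G) ≫ toUnit G) (toUnit G), Category.comp_id]
      exact inv_mul_cancel_left _ _
  haveI : IsIso L.left := inferInstanceAs (IsIso ((Over.forget _).map L))
  have hgi : ∀ i, g i ∈ L.left ⁻¹ᵁ V := fun i => by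
    show L.left (g i) ∈ V
    have ha' : a ∈ (φ i).left ⁻¹' (V : Set G.left) := Set.mem_iInter₂.mp ha i (Finset.mem_univ i)
    have h : gh i ≫ L = ah ≫ φ i := by
      rw [MonObj.comp_mul, GrpObj.comp_inv, ← Category.assoc, toUnit_unique (gh i ≫ toUnit G) (𝟙 _),
        Category.id_comp, Category.comp_id, MonObj.comp_mul, comp_invM, ← Category.assoc,
        toUnit_unique (ah ≫ toUnit G) (𝟙 _), Category.id_comp]
    have e := congrArg (fun m : 𝟙_ (Over (Spec (CommRingCat.of K))) ⟶ G => m.left (IsLocalRing.closedPoint K)) h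
    have e1 : L.left (g i) = (φ i).left a := by
      calc L.left (g i) = L.left ((gh i).left (IsLocalRing.closedPoint K)) := congrArg _ (hgh i).symm
        _ = (φ i).left (ah.left (IsLocalRing.closedPoint K)) := e
        _ = (φ i).left a := congrArg _ hah
    rw [e1]
    exact ha'
  refine ⟨L.left ⁻¹ᵁ V, hV.preimage L.left, hgi, ?_⟩
  obtain ⟨i₀⟩ := ‹Nonempty σ›
  · refine (subset_irreducibleComponent ?_ (hgi i₀)).trans (irreducibleComponent_eq_of_mem (hc i₀)).ge
    have hVirr : IsIrreducible (V : Set G.left) :=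
      ⟨⟨c, hcV⟩, (isIrreducible_irreducibleComponent (x := c)).isPreirreducible.open_subset V.2 hVsub⟩
    have : (↑(L.left ⁻¹ᵁ V) : Set G.left) = L.left.homeomorph.symm '' (V : Set G.left) := by
      rw [Homeomorph.image_symm]; rfl
    rw [this]
    exact hVirr.image _ L.left.homeomorph.symm.continuous.continuousOn

theorem exists_affine_containing [IsAlgClosed K] [LocallyOfFiniteType G.hom] {n : ℕ} (g : Fin n → G.left)
    (hg : ∀ i, IsClosed ({g i} : Set G.left)) : ∃ U : G.left.Opens, IsAffineOpen U ∧ ∀ i, g i ∈ U := by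
  have h : ∀ i, ∃ U : G.left.Opens, IsAffineOpen U ∧
      (∀ j : {j : Fin n // irreducibleComponent (g j) = irreducibleComponent (g i)}, g j.1 ∈ U) ∧
      (U : Set G.left) ⊆ irreducibleComponent (g i) := fun i =>
    haveI : Nonempty {j : Fin n // irreducibleComponent (g j) = irreducibleComponent (g i)} := ⟨⟨i, rfl⟩⟩
    exists_affine_containing_same_component (fun j : {j : Fin n // _} => g j.1) (fun j => hg j.1) (g i)
      fun j => (Set.ext_iff.mp j.2 (g j.1)).mp mem_irreducibleComponent
  choose U hU hgU hUsub using h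
  let C := Set.range fun i : Fin n => irreducibleComponent (g i)
  have hrep : ∀ c : C, ∃ i, irreducibleComponent (g i) = c.1 := fun c => c.2
  choose r hr using hrep
  refine ⟨⨆ c : C, U (r c), IsAffineOpen.iSup_of_disjoint (fun c => hU _) ?_, fun i => ?_⟩
  · intro c c' hne
    rw [Function.onFun, disjoint_iff]
    refine TopologicalSpace.Opens.ext (Set.eq_empty_iff_forall_notMem.mpr fun x hx => hne (Subtype.ext ?_))
    rw [← hr c, ← hr c', irreducibleComponent_eq_of_mem (hUsub _ hx.1), irreducibleComponent_eq_of_mem (hUsub _ hx.2)]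
  · let c : C := ⟨_, i, rfl⟩
    exact TopologicalSpace.Opens.mem_iSup.mpr ⟨c, hgU (r c) ⟨i, (hr c).symm⟩⟩

end Groth.Agent.GrpSchLib
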