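import Groth.Prelude.Def_AlgGrp
import Groth.Agent.FpqcDesc.Basic

/-! Torsors of kernels and a five lemma for closed immersions. -/

set_option autoImplicit false
universe u v

open CategoryTheory CategoryTheory.Limits MonoidalCategory CartesianMonoidalCategory MonObj AlgebraicGeometry

noncomputable section

namespace Groth.Agent.GrpSchLib

variable {S : Scheme.{u}}

/-- If `s` lifts `f` along `b`, then `(x, n) ↦ s x * a n` identifies `X × ker b` with the pullback of `b` along `f`. -/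
theorem isPullback_translate {N G Q X : Over S} [GrpObj N] [GrpObj G] [GrpObj Q] (a : N ⟶ G) (b : G ⟶ Q)
    [IsMonHom b] (h : AlgGrp.IsKernel a b) (f : X ⟶ Q) (s : X ⟶ G) (hs : s ≫ b = f) :
    IsPullback (fst X N ≫ s * snd X N ≫ a) (fst X N) b f := by
  have ha : ∀ {T : Over S} (n : T ⟶ N), n ≫ a ≫ b = 1 := fun n => by
    rw [h.w, Hom.one_def, ← Category.assoc, toUnit_unique (n ≫ toUnit N) (toUnit _)]
  have w : (fst X N ≫ s * snd X N ≫ a) ≫ b = fst X N ≫ f := by
    rw [MonObj.mul_comp, Category.assoc, hs, Category.assoc, ha, _root_.mul_one]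
  have key : ∀ c : PullbackCone b f, ((c.snd ≫ s)⁻¹ * c.fst) ≫ b = toUnit c.pt ≫ η[Q] := fun c => by
    rw [MonObj.mul_comp, GrpObj.inv_comp, Category.assoc, hs, c.condition, inv_mul_cancel, Hom.one_def]
  refine ⟨⟨w⟩, ⟨PullbackCone.IsLimit.mk w (fun c => lift c.snd (h.lift _ (toUnit c.pt) (key c))) ?_ ?_ ?_⟩⟩
  · intro c
    rw [MonObj.comp_mul, ← Category.assoc, ← Category.assoc, lift_fst, lift_snd, h.lift_fst]
    exact mul_inv_cancel_left _ _
  · intro c
    exact lift_fst _ _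
  · intro c m hm1 hm2
    refine CartesianMonoidalCategory.hom_ext _ _ (hm2.trans (lift_fst _ _).symm) ?_
    rw [lift_snd]
    refine h.hom_ext ?_ (toUnit_unique _ _)
    rw [h.lift_fst, ← hm1, ← hm2, MonObj.comp_mul, Category.assoc, Category.assoc,
      inv_mul_cancel_left]

theorem isClosedImmersion_middle {H₁' H₁ H₁'' H₂' H₂ H₂'' : Over S} [GrpObj H₁'] [GrpObj H₁] [GrpObj H₁''] [GrpObj H₂']
    [GrpObj H₂] [GrpObj H₂''] [QuasiCompact H₁.hom] [IsSeparated H₁''.hom]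
    (a₁ : H₁' ⟶ H₁) (b₁ : H₁ ⟶ H₁'') (a₂ : H₂' ⟶ H₂) (b₂ : H₂ ⟶ H₂'')
    [IsMonHom b₁] [IsMonHom b₂] (h₁ : AlgGrp.IsKernel a₁ b₁) (hb₁ : Flat b₁.left ∧ Surjective b₁.left)
    (h₂ : AlgGrp.IsKernel a₂ b₂)
    (j' : H₁' ⟶ H₂') (j : H₁ ⟶ H₂) (j'' : H₁'' ⟶ H₂'') [IsMonHom j]
    (sq₁ : a₁ ≫ j = j' ≫ a₂) (sq₂ : b₁ ≫ j'' = j ≫ b₂)
    (hj' : IsClosedImmersion j'.left) (hj'' : IsClosedImmersion j''.left) :
    IsClosedImmersion j.left := by
  let P := pullback b₂ j''
  let π : P ⟶ H₂ := pullback.fst b₂ j''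
  let ρ : P ⟶ H₁'' := pullback.snd b₂ j''
  let c : H₁ ⟶ P := pullback.lift j b₁ sq₂.symm
  let m₁ : H₁ ⊗ H₁' ⟶ H₁ := fst H₁ H₁' ≫ 𝟙 H₁ * snd H₁ H₁' ≫ a₁
  have p₁ : IsPullback m₁ (fst H₁ H₁') b₁ b₁ := isPullback_translate a₁ b₁ h₁ b₁ (𝟙 H₁) (Category.id_comp _)
  have p₂ : IsPullback (fst H₁ H₂' ≫ j * snd H₁ H₂' ≫ a₂) (fst H₁ H₂') b₂ (b₁ ≫ j'') :=
    isPullback_translate a₂ b₂ h₂ (b₁ ≫ j'') j sq₂.symm
  let mP : H₁ ⊗ H₂' ⟶ P := pullback.lift (fst H₁ H₂' ≫ j * snd H₁ H₂' ≫ a₂) (fst H₁ H₂' ≫ b₁) (by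
    rw [Category.assoc]; exact p₂.w)
  have hmP : IsPullback mP (fst H₁ H₂') ρ b₁ := by
    refine IsPullback.of_right ?_ (pullback.lift_snd _ _ _) (IsPullback.of_hasPullback b₂ j'')
    rw [pullback.lift_fst]
    exact p₂
  let c' : H₁ ⊗ H₁' ⟶ H₁ ⊗ H₂' := H₁ ◁ j'
  have hc' : IsPullback m₁ c' c mP := by
    have w : m₁ ≫ c = c' ≫ mP := by
      refine pullback.hom_ext ?_ ?_
      · simp only [Category.assoc, c, mP, pullback.lift_fst, m₁, c', MonObj.mul_comp, MonObj.comp_mul]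
        rw [← Category.assoc (H₁ ◁ j'), ← Category.assoc (H₁ ◁ j'), whiskerLeft_fst, whiskerLeft_snd, sq₁,
          Category.assoc, Category.id_comp]
      · simp only [Category.assoc, c, mP, pullback.lift_snd, c']
        rw [← Category.assoc (H₁ ◁ j'), whiskerLeft_fst]
        exact p₁.w
    refine IsPullback.of_bot ?_ w hmP
    rw [show c' ≫ fst H₁ H₂' = fst H₁ H₁' from whiskerLeft_fst _ _]
    simp only [c, ρ, pullback.lift_snd]
    exact p₁
  haveI : QuasiCompact b₁.left := by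
    haveI : QuasiCompact (b₁.left ≫ H₁''.hom) := by rw [Over.w b₁]; infer_instance
    exact QuasiCompact.of_comp b₁.left H₁''.hom
  have hmPl : IsPullback mP.left (fst H₁ H₂').left ρ.left b₁.left := hmP.map (Over.forget S)
  have hQ : (@Surjective ⊓ @Flat ⊓ @QuasiCompact : MorphismProperty Scheme) mP.left :=
    ⟨⟨MorphismProperty.of_isPullback hmPl.flip hb₁.2, MorphismProperty.of_isPullback hmPl.flip hb₁.1⟩,
      MorphismProperty.of_isPullback (P := @QuasiCompact) hmPl.flip inferInstance⟩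
  have hc'l : IsClosedImmersion c'.left := by
    have e : IsPullback c'.left (snd H₁ H₁').left (snd H₁ H₂').left j'.left := by
      refine IsPullback.map (Over.forget S) (?_ : IsPullback c' (snd H₁ H₁') (snd H₁ H₂') j')
      refine IsPullback.of_right (h₁₂ := fst H₁ H₂') (h₂₂ := toUnit H₂') (v₁₃ := toUnit H₁) ?_ (whiskerLeft_snd _ _) ?_
      · rw [show c' ≫ fst H₁ H₂' = fst H₁ H₁' from whiskerLeft_fst _ _, comp_toUnit]
        convert IsPullback.of_is_product' (CartesianMonoidalCategory.tensorProductIsBinaryProduct H₁ H₁') isTerminalTensorUnit using 1 <;> exact toUnit_unique _ _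
      · convert IsPullback.of_is_product' (CartesianMonoidalCategory.tensorProductIsBinaryProduct H₁ H₂') isTerminalTensorUnit using 1 <;> exact toUnit_unique _ _
    exact MorphismProperty.of_isPullback e.flip hj'
  haveI := FpqcDesc.isClosedImmersion_descends.{u}
  have hc : IsClosedImmersion c.left :=
    MorphismProperty.of_isPullback_of_descendsAlong (P := @IsClosedImmersion) (hc'.map (Over.forget S)).flip hQ hc'l
  have hπ : IsClosedImmersion π.left :=
    MorphismProperty.of_isPullback ((IsPullback.of_hasPullback b₂ j'').map (Over.forget S)).flip hj''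
  have : j.left = c.left ≫ π.left := (congrArg CommaMorphism.left (pullback.lift_fst j b₁ sq₂.symm)).symm
  rw [this]
  haveI := hc; haveI := hπ
  infer_instance

end Groth.Agent.GrpSchLib
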