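import Groth.Agent.GrpSchLib.Immersion

/-! The image of a homomorphism from an irreducible group scheme contains all closed points of its closure. -/

set_option autoImplicit false
universe u

open CategoryTheory MonoidalCategory CartesianMonoidalCategory MonObj AlgebraicGeometry Limits

noncomputable section

namespace Groth.Agent.GrpSchLib

variable {K : Type u} [Field K] {G H : Over (Spec (CommRingCat.of K))} [GrpObj G] [GrpObj H] (i : H ⟶ G) [IsMonHom i]
  [IrreducibleSpace H.left]

theorem mem_range_of_mem_closure (z : 𝟙_ (Over (Spec (CommRingCat.of K))) ⟶ G)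
    (hz : z.left (IsLocalRing.closedPoint K) ∈ closure (Set.range i.left)) :
    z.left (IsLocalRing.closedPoint K) ∈ Set.range i.left := by
  let A := Set.range i.left
  have hη : closure A = closure {i.left (genericPoint H.left)} := by
    refine subset_antisymm (closure_minimal ?_ isClosed_closure)
      (closure_minimal (Set.singleton_subset_iff.2 (subset_closure ⟨_, rfl⟩)) isClosed_closure)
    rintro _ ⟨x, rfl⟩
    exact ((genericPoint_specializes x).map i.left.continuous).mem_closure
  let η0 := i.left (genericPoint H.left)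
  let c : G ⟶ G := toUnit G ≫ z
  let φ : G ⟶ G := c * (𝟙 G)⁻¹
  let ψ : G ⟶ G := (𝟙 G)⁻¹ * c
  have hc : ∀ x, c.left x = z.left (IsLocalRing.closedPoint K) := fun x => by
    show z.left ((toUnit G).left x) = _
    exact congrArg _ (Subsingleton.elim (α := PrimeSpectrum K) _ _)
  have hcomp : ψ ≫ φ = 𝟙 G := by
    have hψc : ψ ≫ c = c := by rw [← Category.assoc, toUnit_unique (ψ ≫ toUnit G) (toUnit G)]
    rw [MonObj.comp_mul, GrpObj.comp_inv, hψc, Category.comp_id, mul_inv_rev, inv_inv, mul_inv_cancel_left]
  have hid : ∀ x ∈ closure A, (𝟙 G : G ⟶ G)⁻¹.left x ∈ closure A := fun x hx => inv_mem_closure i _ x hx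
  have hφ : ∀ x ∈ closure A, φ.left x ∈ closure A := fun x hx =>
    mul_mem_closure i c _ x (by rw [hc]; exact hz) (hid x hx)
  have hψ : ∀ x ∈ closure A, ψ.left x ∈ closure A := fun x hx =>
    mul_mem_closure i _ c x (hid x hx) (by rw [hc]; exact hz)
  have h0 : η0 ∈ closure A := subset_closure ⟨_, rfl⟩
  have hs : ∀ x ∈ closure A, η0 ⤳ x := fun x hx => specializes_iff_mem_closure.2 (hη ▸ hx)
  have heq : φ.left η0 = η0 := by
    refine (Specializes.antisymm ?_ (hs _ (hφ _ h0))).eq
    have h1 := (hs _ (hψ _ h0)).map φ.left.continuous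
    have e : φ.left (ψ.left η0) = η0 := congrArg (fun m : G ⟶ G => m.left η0) hcomp
    rwa [e] at h1
  have h2 := mul_mem_range i φ (𝟙 G) η0 (heq.symm ▸ ⟨_, rfl⟩) ⟨_, rfl⟩
  rw [show φ * 𝟙 G = c from inv_mul_cancel_right _ _, hc] at h2
  exact h2

end Groth.Agent.GrpSchLib
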