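import Groth.Agent.Comodule.Integral
import Groth.Agent.TraceEt.Basic

/-! A finite Hopf algebra over a field whose dimension is invertible is étale. -/

set_option autoImplicit false
universe u

open TensorProduct

noncomputable section

namespace Groth.Agent.GrpSchLib.HopfTrace

variable (k : Type u) [Field k] (A : Type u) [CommRing A] [HopfAlgebra k A]

/-- The left linear form of the Galois map: `x ⊗ c ↦ x c₂ ⊗ c₁`. -/
def psi : A ⊗[k] A →ₐ[A] A ⊗[k] A :=
  Algebra.TensorProduct.lift (Algebra.ofId A (A ⊗[k] A))
    ((Algebra.TensorProduct.comm k A A).toAlgHom.comp (Bialgebra.comulAlgHom k A)) fun _ _ => Commute.all _ _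

theorem psi_apply (z : A ⊗[k] A) :
    psi k A z = Algebra.TensorProduct.comm k A A (Comodule.galois k A (Algebra.TensorProduct.comm k A A z)) := by
  induction z with
  | zero => simp
  | add x y hx hy => simp only [map_add, hx, hy]
  | tmul x c => simp [psi, Comodule.galois, mul_comm]

theorem psi_bijective : Function.Bijective (psi k A) := by
  have h : ⇑(psi k A) = Algebra.TensorProduct.comm k A A ∘ Comodule.galois k A ∘ Algebra.TensorProduct.comm k A A :=
    funext (psi_apply k A)
  rw [h]
  exact (Algebra.TensorProduct.comm k A A).bijective.comp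
    (Function.Bijective.comp ⟨Function.LeftInverse.injective Comodule.galoisInv_galois,
      fun z => ⟨_, Comodule.galois_galoisInv z⟩⟩ (Algebra.TensorProduct.comm k A A).bijective)

variable [Module.Finite k A]

theorem trace_tmul (c e : A) : Algebra.trace A (A ⊗[k] A) (c ⊗ₜ[k] e) = Algebra.trace k A e • c := by
  rw [show (c ⊗ₜ[k] e : A ⊗[k] A) = c • ((1 : A) ⊗ₜ[k] e) by rw [TensorProduct.smul_tmul', smul_eq_mul, mul_one],
    map_smul, TraceEt.trace_baseChange, smul_eq_mul, Algebra.smul_def, mul_comm]

theorem trace_comm_comul_mul (a b : A) (ha : Algebra.traceForm k A a = 0) :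
    Algebra.trace A (A ⊗[k] A)
      (Algebra.TensorProduct.comm k A A (Coalgebra.comul (R := k) a) * ((1 : A) ⊗ₜ[k] b)) = 0 := by
  have e : psi k A ((1 : A) ⊗ₜ[k] a) = Algebra.TensorProduct.comm k A A (Coalgebra.comul (R := k) a) := by
    simp [psi, ← Algebra.TensorProduct.one_def]
  obtain ⟨w, hw⟩ := (psi_bijective k A).2 ((1 : A) ⊗ₜ[k] b)
  rw [← e, ← hw, ← map_mul, ← AlgEquiv.ofBijective_apply (psi k A) (psi_bijective k A),
    Algebra.trace_eq_of_algEquiv]
  clear hw e
  induction w with
  | zero => simp
  | add x y hx hy => simp only [mul_add, map_add, hx, hy, add_zero]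
  | tmul c d =>
    rw [Algebra.TensorProduct.tmul_mul_tmul, one_mul, trace_tmul, ← Algebra.traceForm_apply, ha,
      LinearMap.zero_apply, zero_smul]

theorem counit_eq_zero (hn : (Module.finrank k A : k) ≠ 0) (a : A) (ha : Algebra.traceForm k A a = 0) :
    Coalgebra.counit (R := k) a = 0 := by
  classical
  let b := Module.finBasis k A
  let F : A ⊗[k] A →ₗ[k] k := (Algebra.trace k A).comp ((LinearMap.mul' k A).comp
    ((HopfAlgebra.antipode k).rTensor A))
  let G : A ⊗[k] A →ₗ[k] k := ∑ j, ((b.coord j).comp (HopfAlgebra.antipode k)).comp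
    (((Algebra.trace A (A ⊗[k] A)).restrictScalars k).comp
      ((LinearMap.mul k (A ⊗[k] A)).flip ((1 : A) ⊗ₜ[k] b j)))
  have hFG : F = G := by
    refine TensorProduct.ext' fun c e => ?_
    simp only [F, G, LinearMap.sum_apply, LinearMap.comp_apply, LinearMap.rTensor_tmul, LinearMap.mul'_apply,
      LinearMap.flip_apply, LinearMap.mul_apply', LinearMap.coe_restrictScalars,
      Algebra.TensorProduct.tmul_mul_tmul, mul_one, trace_tmul, map_smul, smul_eq_mul, Module.Basis.coord_apply]
    conv_lhs => rw [← b.sum_repr (HopfAlgebra.antipode k c), Finset.sum_mul, map_sum]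
    exact Finset.sum_congr rfl fun j _ => by rw [smul_mul_assoc, map_smul, smul_eq_mul, mul_comm (b j), mul_comm]
  have h1 : F (Algebra.TensorProduct.comm k A A (Coalgebra.comul (R := k) a)) =
      Coalgebra.counit (R := k) a * (Module.finrank k A : k) := by
    have h2 : (LinearMap.mul' k A) ((HopfAlgebra.antipode k).rTensor A
        (Algebra.TensorProduct.comm k A A (Coalgebra.comul (R := k) a))) =
        (LinearMap.mul' k A) ((HopfAlgebra.antipode k).lTensor A (Coalgebra.comul (R := k) a)) := by
      generalize Coalgebra.comul (R := k) a = z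
      induction z with
      | zero => simp
      | add x y hx hy => simp only [map_add, hx, hy]
      | tmul x y => simp [mul_comm]
    simp only [F, LinearMap.comp_apply, h2, HopfAlgebra.mul_antipode_lTensor_comul_apply,
      Algebra.trace_algebraMap, nsmul_eq_mul]
    rw [mul_comm]
  rw [hFG] at h1
  simp only [G, LinearMap.sum_apply, LinearMap.comp_apply, LinearMap.flip_apply, LinearMap.mul_apply',
    LinearMap.coe_restrictScalars, trace_comm_comul_mul k A a _ ha, map_zero, Finset.sum_const_zero] at h1
  exact (mul_eq_zero.1 h1.symm).resolve_right hn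

theorem traceForm_injective (hn : (Module.finrank k A : k) ≠ 0) : Function.Injective (Algebra.traceForm k A) := by
  let t : A →ₗ[k] Module.Dual k A := Algebra.traceForm k A
  obtain ⟨b₀, hb₀⟩ : (Coalgebra.counit (R := k) (A := A)) ∈ LinearMap.range t := by
    have h : (Coalgebra.counit (R := k) (A := A)) ∈ LinearMap.range t.dualMap := by
      rw [LinearMap.range_dualMap_eq_dualAnnihilator_ker, Submodule.mem_dualAnnihilator]
      exact fun a ha => counit_eq_zero k A hn a ha
    obtain ⟨φ, hφ⟩ := h
    obtain ⟨x, rfl⟩ := (Module.evalEquiv k A).surjective φ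
    refine ⟨x, LinearMap.ext fun y => ?_⟩
    rw [← hφ]
    exact (Algebra.traceForm_isSymm k).eq x y
  refine (injective_iff_map_eq_zero _).2 fun a ha => ?_
  have h := trace_comm_comul_mul k A a b₀ ha
  have key : ∀ z : A ⊗[k] A, Algebra.trace A (A ⊗[k] A) (Algebra.TensorProduct.comm k A A z * ((1 : A) ⊗ₜ[k] b₀)) =
      TensorProduct.lid k A ((Coalgebra.counit (R := k)).rTensor A z) := by
    intro z
    induction z with
    | zero => simp
    | add x y hx hy => simp only [add_mul, map_add, hx, hy]
    | tmul x y =>
      rw [Algebra.TensorProduct.comm_tmul, Algebra.TensorProduct.tmul_mul_tmul, mul_one, trace_tmul,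
        LinearMap.rTensor_tmul, TensorProduct.lid_tmul, mul_comm, ← Algebra.traceForm_apply,
        show Algebra.traceForm k A b₀ = Coalgebra.counit (R := k) from hb₀]
  rwa [key, Coalgebra.rTensor_counit_comul, TensorProduct.lid_tmul, one_smul] at h

/-- A finite group scheme over a field of order prime to the characteristic is étale. -/
theorem etale_of_finrank_ne_zero (hn : (Module.finrank k A : k) ≠ 0) : Algebra.Etale k A := by
  rw [TraceEt.etale_iff_bijective]
  exact ⟨traceForm_injective k A hn, (LinearMap.injective_iff_surjective_of_finrank_eq_finrank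
    Subspace.dual_finrank_eq.symm).1 (traceForm_injective k A hn)⟩

end Groth.Agent.GrpSchLib.HopfTrace
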