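import Mathlib

/-! Lie algebras free of rank three. -/

set_option autoImplicit false
universe u v w

namespace Groth.Agent.LieThree

variable {A : Type u} [CommRing A] {L : Type v} [LieRing L] [LieAlgebra A L] (b : Module.Basis (Fin 3) A L)

theorem decomp (u : L) : u = b.repr u 0 • b 0 + b.repr u 1 • b 1 + b.repr u 2 • b 2 := by
  have h := b.sum_repr u
  rw [Fin.sum_univ_three] at h
  exact h.symm

theorem bracket_eq (u v : L) :
    ⁅u, v⁆ = (b.repr u 0 * b.repr v 1 - b.repr u 1 * b.repr v 0) • ⁅b 0, b 1⁆ +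
      (b.repr u 0 * b.repr v 2 - b.repr u 2 * b.repr v 0) • ⁅b 0, b 2⁆ +
      (b.repr u 1 * b.repr v 2 - b.repr u 2 * b.repr v 1) • ⁅b 1, b 2⁆ := by
  conv_lhs => rw [decomp b u, decomp b v]
  have h10 : ⁅b 1, b 0⁆ = -⁅b 0, b 1⁆ := (lie_skew _ _).symm
  have h20 : ⁅b 2, b 0⁆ = -⁅b 0, b 2⁆ := (lie_skew _ _).symm
  have h21 : ⁅b 2, b 1⁆ = -⁅b 1, b 2⁆ := (lie_skew _ _).symm
  simp only [lie_add, add_lie, lie_smul, smul_lie, lie_self, h10, h20, h21]
  module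

theorem combo (p q r : A) :
    b.repr (p • b 0 + q • b 1 + r • b 2) 0 = p ∧ b.repr (p • b 0 + q • b 1 + r • b 2) 1 = q ∧
      b.repr (p • b 0 + q • b 1 + r • b 2) 2 = r := by
  refine ⟨?_, ?_, ?_⟩ <;> simp [Finsupp.single_apply]

/-- The coordinates of the images of a basis have unit determinant. -/
theorem isUnit_det {L' : Type w} [AddCommGroup L'] [Module A L'] (b' : Module.Basis (Fin 3) A L') (φ : L ≃ₗ[A] L')
    (hp : b'.repr (φ (b 1)) 0 = 0) (hq : b'.repr (φ (b 2)) 0 = 0) :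
    IsUnit (b'.repr (φ (b 0)) 0) ∧ IsUnit (b'.repr (φ (b 1)) 1 * b'.repr (φ (b 2)) 2 -
      b'.repr (φ (b 1)) 2 * b'.repr (φ (b 2)) 1) := by
  have h := b'.isUnit_det (b.map φ)
  rw [Module.Basis.det_apply, Matrix.det_fin_three] at h
  simp only [Module.Basis.toMatrix_apply, Module.Basis.map_apply, hp, hq] at h
  refine IsUnit.mul_iff.mp ?_
  convert h using 1
  ring

/-- Build an isomorphism from a linear one checked on three brackets. -/
theorem nonempty_lieEquiv {L' : Type w} [LieRing L'] [LieAlgebra A L'] (e : L ≃ₗ[A] L')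
    (h01 : e ⁅b 0, b 1⁆ = ⁅e (b 0), e (b 1)⁆) (h02 : e ⁅b 0, b 2⁆ = ⁅e (b 0), e (b 2)⁆)
    (h12 : e ⁅b 1, b 2⁆ = ⁅e (b 1), e (b 2)⁆) : Nonempty (L ≃ₗ⁅A⁆ L') := by
  refine ⟨{ e with map_lie' := fun {u v} => ?_ }⟩
  show e ⁅u, v⁆ = ⁅e u, e v⁆
  rw [bracket_eq b u v, map_add, map_add, map_smul, map_smul, map_smul, h01, h02, h12]
  have hu : e u = b.repr u 0 • e (b 0) + b.repr u 1 • e (b 1) + b.repr u 2 • e (b 2) := by
    conv_lhs => rw [decomp b u]
    simp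
  have hv : e v = b.repr v 0 • e (b 0) + b.repr v 1 • e (b 1) + b.repr v 2 • e (b 2) := by
    conv_lhs => rw [decomp b v]
    simp
  have h10 : ⁅e (b 1), e (b 0)⁆ = -⁅e (b 0), e (b 1)⁆ := (lie_skew _ _).symm
  have h20 : ⁅e (b 2), e (b 0)⁆ = -⁅e (b 0), e (b 2)⁆ := (lie_skew _ _).symm
  have h21 : ⁅e (b 2), e (b 1)⁆ = -⁅e (b 1), e (b 2)⁆ := (lie_skew _ _).symm
  rw [hu, hv]
  simp only [lie_add, add_lie, lie_smul, smul_lie, lie_self, h10, h20, h21]
  module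

end Groth.Agent.LieThree
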