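import Mathlib

/-! Products with the spectrum of a colimit of finite products of copies of the base field. -/

set_option autoImplicit false
universe u

open CategoryTheory CategoryTheory.Limits AlgebraicGeometry TensorProduct Topology

noncomputable section

namespace Groth.Agent.GrpSchLib.SplitColim

variable {k : Type u} [Field k] {A : Type u} [CommRing A] [Algebra k A]
  (hA : ∀ s : Finset A, ∃ (B : Subalgebra k A) (n : ℕ), (↑s : Set A) ⊆ (B : Set A) ∧ Nonempty (B ≃ₐ[k] (Fin n → k)))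

include hA in
theorem exists_idem (s : Finset A) : ∃ (n : ℕ) (e : Fin n → A), (∀ i j, i ≠ j → e i * e j = 0) ∧
    ∑ i, e i = 1 ∧ ∀ a ∈ s, ∃ c : Fin n → k, a = ∑ i, c i • e i := by
  classical
  obtain ⟨B, n, hs, ⟨φ⟩⟩ := hA s
  refine ⟨n, fun i => (φ.symm (Pi.single i 1) : B), fun i j hij => ?_, ?_, fun a ha => ⟨φ ⟨a, hs ha⟩, ?_⟩⟩
  · show B.val _ * B.val _ = 0
    rw [← map_mul, ← map_mul, show (Pi.single i (1 : k) : Fin n → k) * Pi.single j 1 = 0 from
      funext fun l => by
        by_cases h : l = i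
        · subst h; simp [hij]
        · simp [h], map_zero, map_zero]
  · show ∑ i, B.val (φ.symm (Pi.single i 1)) = 1
    rw [← map_sum, ← map_sum, Finset.univ_sum_single (fun _ : Fin n => (1 : k))]
    exact (congrArg B.val (map_one φ.symm)).trans (map_one _)
  · have h : (⟨a, hs ha⟩ : B) = ∑ i, φ ⟨a, hs ha⟩ i • φ.symm (Pi.single i 1) := by
      apply φ.injective
      simp only [map_sum, map_smul, AlgEquiv.apply_symm_apply, Pi.smul_def, smul_eq_mul]
      ext l
      simp [Finset.sum_apply, Pi.single_apply]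
    exact (congrArg B.val h).trans (by simp [map_sum, map_smul])

include hA in
theorem surjective_quotient (p : Ideal A) [p.IsPrime] : Function.Surjective (algebraMap k (A ⧸ p)) := by
  intro y
  obtain ⟨a, rfl⟩ := Ideal.Quotient.mk_surjective y
  obtain ⟨n, e, he, h1, hs⟩ := exists_idem hA {a}
  obtain ⟨c, rfl⟩ := hs a (Finset.mem_singleton_self a)
  obtain ⟨i, hi⟩ : ∃ i, e i ∉ p := by
    by_contra h
    push Not at h
    exact (inferInstance : p.IsPrime).ne_top ((Ideal.eq_top_iff_one _).2 (h1 ▸ sum_mem fun i _ => h i))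
  have hj : ∀ j, j ≠ i → Ideal.Quotient.mk p (e j) = 0 := fun j hji => Ideal.Quotient.eq_zero_iff_mem.2
    (((inferInstance : p.IsPrime).mem_or_mem (by rw [he j i hji]; exact zero_mem p)).resolve_right hi)
  have hone : Ideal.Quotient.mk p (e i) = 1 := by
    have h := congrArg (Ideal.Quotient.mk p) h1
    rwa [map_sum, Finset.sum_eq_single i (fun j _ => hj j) (by simp), map_one] at h
  refine ⟨c i, ?_⟩
  rw [map_sum, Finset.sum_eq_single i]
  · rw [Algebra.smul_def, map_mul, hone, mul_one]; rfl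
  · intro j _ hji; rw [Algebra.smul_def, map_mul, hj j hji, mul_zero]
  · simp

section Ring

variable {B : Type u} [CommRing B] [Algebra k B]

theorem exists_decomp (z : A ⊗[k] B)
    (hA : ∀ s : Finset A, ∃ (B : Subalgebra k A) (n : ℕ), (↑s : Set A) ⊆ (B : Set A) ∧ Nonempty (B ≃ₐ[k] (Fin n → k))) :
    ∃ (n : ℕ) (e : Fin n → A) (b : Fin n → B), (∀ i j, i ≠ j → e i * e j = 0) ∧ ∑ i, e i = 1 ∧
      z = ∑ i, e i ⊗ₜ[k] b i := by
  classical
  obtain ⟨S, hz⟩ := TensorProduct.exists_finset z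
  obtain ⟨n, e, he, h1, hs⟩ := exists_idem hA (S.image Prod.fst)
  choose c hc using fun p : S => hs p.1.1 (Finset.mem_image_of_mem _ p.2)
  refine ⟨n, e, fun i => ∑ p : S, c p i • p.1.2, he, h1, ?_⟩
  rw [hz, ← Finset.sum_coe_sort S]
  simp only [tmul_sum]
  rw [Finset.sum_comm]
  refine Finset.sum_congr rfl fun p _ => ?_
  conv_lhs => rw [hc p, sum_tmul]
  simp [smul_tmul]

theorem notMem_iff {n : ℕ} {e : Fin n → A} {b : Fin n → B} (he : ∀ i j, i ≠ j → e i * e j = 0) (h1 : ∑ i, e i = 1)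
    (P : Ideal (A ⊗[k] B)) [P.IsPrime] :
    (∑ i, e i ⊗ₜ[k] b i) ∉ P ↔ ∃ i, e i ⊗ₜ[k] (1 : B) ∉ P ∧ (1 : A) ⊗ₜ[k] b i ∉ P := by
  obtain ⟨i, hi⟩ : ∃ i, e i ⊗ₜ[k] (1 : B) ∉ P := by
    by_contra h
    push Not at h
    have h' := sum_mem (t := (Finset.univ : Finset (Fin n))) fun i _ => h i
    rw [← sum_tmul, h1] at h'
    exact (inferInstance : P.IsPrime).ne_top ((Ideal.eq_top_iff_one _).2 h')
  have hj : ∀ j, j ≠ i → e j ⊗ₜ[k] (1 : B) ∈ P := fun j hji =>
    ((inferInstance : P.IsPrime).mem_or_mem (by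
      rw [Algebra.TensorProduct.tmul_mul_tmul, he j i hji, zero_tmul]; exact zero_mem P)).resolve_right hi
  have hprod : ∀ j, e j ⊗ₜ[k] b j = (e j ⊗ₜ[k] (1 : B)) * ((1 : A) ⊗ₜ[k] b j) := fun j => by
    rw [Algebra.TensorProduct.tmul_mul_tmul, one_mul, mul_one]
  have hrest : ∑ j ∈ Finset.univ.erase i, e j ⊗ₜ[k] b j ∈ P := sum_mem fun j hj' => by
    rw [hprod]; exact P.mul_mem_right _ (hj j (Finset.mem_erase.1 hj').1)
  rw [← Finset.add_sum_erase _ _ (Finset.mem_univ i), P.add_mem_iff_left hrest, hprod]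
  constructor
  · intro h
    exact ⟨i, hi, fun hb => h (P.mul_mem_left _ hb)⟩
  · rintro ⟨j, hj1, hj2⟩ h
    obtain rfl : j = i := by_contra fun hne => hj1 (hj j hne)
    exact ((inferInstance : P.IsPrime).mem_or_mem h).elim hj1 hj2

variable (k A B) in
/-- The pair of contractions. -/
def contract (P : PrimeSpectrum (A ⊗[k] B)) : PrimeSpectrum A × PrimeSpectrum B :=
  (PrimeSpectrum.comap (Algebra.TensorProduct.includeLeftRingHom) P,
    PrimeSpectrum.comap (Algebra.TensorProduct.includeRight : B →ₐ[k] A ⊗[k] B).toRingHom P)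

include hA in
theorem isEmbedding_contract : IsEmbedding (contract k A B) := by
  have hc : Continuous (contract k A B) := (PrimeSpectrum.continuous_comap _).prodMk (PrimeSpectrum.continuous_comap _)
  refine ⟨⟨le_antisymm hc.le_induced ?_⟩, ?_⟩
  · conv_rhs => rw [PrimeSpectrum.isTopologicalBasis_basic_opens.eq_generateFrom]
    refine le_generateFrom ?_
    rintro _ ⟨z, rfl⟩
    obtain ⟨n, e, b, he, h1, rfl⟩ := exists_decomp z hA
    refine ⟨⋃ i, (PrimeSpectrum.basicOpen (e i) : Set (PrimeSpectrum A)) ×ˢ (PrimeSpectrum.basicOpen (b i) : Set (PrimeSpectrum B)),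
      isOpen_iUnion fun i => (PrimeSpectrum.basicOpen (e i)).2.prod (PrimeSpectrum.basicOpen (b i)).2, ?_⟩
    ext P
    simp only [Set.mem_preimage, Set.mem_iUnion, Set.mem_prod, SetLike.mem_coe, PrimeSpectrum.mem_basicOpen]
    rw [notMem_iff he h1]
    rfl
  · intro P Q h
    refine PrimeSpectrum.ext (Ideal.ext fun z => not_iff_not.1 ?_)
    obtain ⟨n, e, b, he, h1, rfl⟩ := exists_decomp z hA
    rw [notMem_iff he h1, notMem_iff he h1]
    have hl : ∀ a, a ⊗ₜ[k] (1 : B) ∈ P.asIdeal ↔ a ⊗ₜ[k] (1 : B) ∈ Q.asIdeal := fun a =>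
      Set.ext_iff.1 (congrArg (fun q : PrimeSpectrum A => (q.asIdeal : Set A)) (congrArg Prod.fst h)) a
    have hr : ∀ b, (1 : A) ⊗ₜ[k] b ∈ P.asIdeal ↔ (1 : A) ⊗ₜ[k] b ∈ Q.asIdeal := fun a =>
      Set.ext_iff.1 (congrArg (fun q : PrimeSpectrum B => (q.asIdeal : Set B)) (congrArg Prod.snd h)) a
    simp only [hl, hr]

end Ring

section Scheme

include hA in
theorem exists_section (x : PrimeSpectrum A) : ∃ s : Spec (CommRingCat.of k) ⟶ Spec (CommRingCat.of A),
    s ≫ Spec.map (CommRingCat.ofHom (algebraMap k A)) = 𝟙 _ ∧ s (IsLocalRing.closedPoint k) = x := by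
  let e : k ≃ₐ[k] (A ⧸ x.asIdeal) := AlgEquiv.ofBijective (Algebra.ofId k _)
    ⟨(algebraMap k (A ⧸ x.asIdeal)).injective, surjective_quotient hA x.asIdeal⟩
  let ε : A →ₐ[k] k := e.symm.toAlgHom.comp (Ideal.Quotient.mkₐ k x.asIdeal)
  refine ⟨Spec.map (CommRingCat.ofHom ε.toRingHom), ?_, ?_⟩
  · rw [← Spec.map_comp, ← CommRingCat.ofHom_comp, show ε.toRingHom.comp (algebraMap k A) = RingHom.id k from
      RingHom.ext fun c => ε.commutes c, CommRingCat.ofHom_id, Spec.map_id]
  · refine PrimeSpectrum.ext (Ideal.ext fun a => ?_)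
    show ε a ∈ (IsLocalRing.maximalIdeal k) ↔ a ∈ x.asIdeal
    rw [IsLocalRing.isField_iff_maximalIdeal_eq.1 (Field.toIsField k), Ideal.mem_bot]
    show e.symm (Ideal.Quotient.mk x.asIdeal a) = 0 ↔ _
    rw [map_eq_zero_iff _ e.symm.injective, Ideal.Quotient.eq_zero_iff_mem]

include hA in
theorem exists_section_lift {X : Scheme.{u}} (f : X ⟶ Spec (CommRingCat.of k)) (x : PrimeSpectrum A) (y : X) :
    ∃ p : ↑(pullback (Spec.map (CommRingCat.ofHom (algebraMap k A))) f),
      pullback.fst (Spec.map (CommRingCat.ofHom (algebraMap k A))) f p = x ∧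
      pullback.snd (Spec.map (CommRingCat.ofHom (algebraMap k A))) f p = y := by
  obtain ⟨s, hs, hsx⟩ := exists_section hA x
  let L := pullback.lift (f := Spec.map (CommRingCat.ofHom (algebraMap k A))) (g := f) (f ≫ s) (𝟙 X)
    (by rw [Category.assoc, hs, Category.comp_id, Category.id_comp])
  refine ⟨L y, ?_, ?_⟩
  · rw [← Scheme.Hom.comp_apply, pullback.lift_fst, Scheme.Hom.comp_apply]
    rw [← hsx]
    exact congrArg _ (Subsingleton.elim (α := PrimeSpectrum k) _ _)
  · rw [← Scheme.Hom.comp_apply, pullback.lift_snd]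
    rfl

include hA in
theorem isHomeomorph_fst_snd {X : Scheme.{u}} (f : X ⟶ Spec (CommRingCat.of k)) :
    IsHomeomorph (fun p : ↑(pullback (Spec.map (CommRingCat.ofHom (algebraMap k A))) f) =>
      (pullback.fst (Spec.map (CommRingCat.ofHom (algebraMap k A))) f p,
        pullback.snd (Spec.map (CommRingCat.ofHom (algebraMap k A))) f p)) := by
  set a := Spec.map (CommRingCat.ofHom (algebraMap k A)) with ha
  set Φ := fun p : ↑(pullback a f) => (pullback.fst a f p, pullback.snd a f p) with hΦ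
  have hcont : Continuous Φ := (pullback.fst a f).continuous.prodMk (pullback.snd a f).continuous
  have local_ : ∀ y : X, ∃ U : X.Opens, y ∈ U ∧ Set.InjOn Φ (pullback.snd a f ⁻¹' U) ∧
      ∀ W : Set ↑(pullback a f), IsOpen W → W ⊆ pullback.snd a f ⁻¹' U → IsOpen (Φ '' W) := by
    intro y
    obtain ⟨U, hU, hy, -⟩ := exists_isAffineOpen_mem_and_subset (X := X) (x := y) (U := ⊤) trivial
    let g := hU.fromSpec ≫ f
    letI : Algebra k Γ(X, U) := (Spec.preimage g).hom.toAlgebra
    have hg : Spec.map (CommRingCat.ofHom (algebraMap k Γ(X, U))) = g := Spec.map_preimage g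
    let j : Spec (CommRingCat.of (A ⊗[k] Γ(X, U))) ⟶ pullback a f := (pullbackSpecIso k A Γ(X, U)).inv ≫
      pullback.map _ _ a f (𝟙 _) hU.fromSpec (𝟙 _) (by simp [ha]) (by rw [Category.comp_id, hg])
    haveI : IsOpenImmersion j := inferInstance
    have hjr : Set.range j = pullback.snd a f ⁻¹' (U : Set X) := by
      rw [Scheme.Hom.comp_base, TopCat.coe_comp,
        Set.range_comp, Set.range_eq_univ.2 (pullbackSpecIso k A Γ(X, U)).inv.surjective, Set.image_univ,
        Scheme.Pullback.range_map, hU.range_fromSpec]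
      simp
    have hj : ∀ q, Φ (j q) = ((contract k A Γ(X, U) q).1, hU.fromSpec (contract k A Γ(X, U) q).2) := by
      intro q
      refine Prod.ext ?_ ?_
      · show (j ≫ pullback.fst a f) q = _
        rw [Category.assoc, pullback.lift_fst, Category.comp_id, pullbackSpecIso_inv_fst]
        rfl
      · show (j ≫ pullback.snd a f) q = _
        rw [Category.assoc, pullback.lift_snd, pullbackSpecIso_inv_snd_assoc]
        rfl
    have hemb : IsEmbedding fun q => Φ (j q) := by
      simp only [hj]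
      exact (IsEmbedding.id.prodMap hU.fromSpec.isOpenEmbedding.isEmbedding).comp (isEmbedding_contract hA)
    have hrange : Set.range (fun q => Φ (j q)) = Set.univ ×ˢ (U : Set X) := by
      ext ⟨x, z⟩
      constructor
      · rintro ⟨q, hq⟩
        exact ⟨trivial, (congrArg Prod.snd hq) ▸ (hjr.le ⟨q, rfl⟩)⟩
      · rintro ⟨-, hz⟩
        obtain ⟨p, hp1, hp2⟩ := exists_section_lift hA f x z
        obtain ⟨q, hq⟩ := hjr.ge (show pullback.snd a f p ∈ (U : Set X) from hp2.symm ▸ hz)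
        exact ⟨q, (congrArg Φ hq).trans (Prod.ext hp1 hp2)⟩
    have hoemb : IsOpenEmbedding fun q => Φ (j q) :=
      ⟨hemb, hrange ▸ isOpen_univ.prod U.2⟩
    refine ⟨U, hy, ?_, fun W hW hWU => ?_⟩
    · intro p hp p' hp' e
      obtain ⟨q, rfl⟩ := hjr.ge hp
      obtain ⟨q', rfl⟩ := hjr.ge hp'
      exact congrArg _ (hemb.injective e)
    · have : Φ '' W = (fun q => Φ (j q)) '' (j ⁻¹' W) := by
        rw [← Set.image_image Φ j, Set.image_preimage_eq_of_subset (hWU.trans hjr.ge)]
      rw [this]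
      exact hoemb.isOpenMap _ (hW.preimage j.continuous)
  choose U hU hinj hopen using local_
  refine ⟨hcont, fun W hW => ?_, ⟨fun p p' e => ?_, fun xz => ?_⟩⟩
  · have : Φ '' W = ⋃ y, Φ '' (W ∩ pullback.snd a f ⁻¹' (U y)) := by
      rw [← Set.image_iUnion]; congr 1
      ext p; simp only [Set.mem_iUnion, Set.mem_inter_iff, Set.mem_preimage, SetLike.mem_coe]
      exact ⟨fun h => ⟨_, h, hU _⟩, fun ⟨y, h, _⟩ => h⟩
    rw [this]
    exact isOpen_iUnion fun y => hopen y _ (hW.inter ((U y).2.preimage (pullback.snd a f).continuous)) Set.inter_subset_right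
  · have h2 : pullback.snd a f p = pullback.snd a f p' := congrArg Prod.snd e
    refine hinj (pullback.snd a f p) (hU _) ?_ e
    show pullback.snd a f p' ∈ U (pullback.snd a f p)
    rw [show U (pullback.snd a f p) = U (pullback.snd a f p') from congrArg U h2]
    exact hU _
  · obtain ⟨p, hp1, hp2⟩ := exists_section_lift hA f xz.1 xz.2
    exact ⟨p, Prod.ext hp1 hp2⟩

end Scheme

end Groth.Agent.GrpSchLib.SplitColim
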