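import Groth.Agent.GrpSchLib.Component
import Groth.Agent.GrpSchLib.SplitColim

/-! A profinite family of points of a group scheme lies in an affine open. -/

set_option autoImplicit false
universe u

open CategoryTheory MonoidalCategory CartesianMonoidalCategory MonObj AlgebraicGeometry Limits

noncomputable section

namespace Groth.Agent.GrpSchLib

variable {K : Type u} [Field K] {G : Over (Spec (CommRingCat.of K))} [GrpObj G]

theorem isAffineOpen_inf_isClopen {V : G.left.Opens} (hV : IsAffineOpen V) {W : G.left.Opens}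
    (hW : IsClosed (W : Set G.left)) : IsAffineOpen (V ⊓ W) := by
  haveI : IsClosedImmersion W.ι := IsClosedImmersion.of_isPreimmersion _ (by rw [Scheme.Opens.range_ι]; exact hW)
  have h := (hV.preimage W.ι).image_of_isOpenImmersion W.ι
  rwa [Scheme.Hom.image_preimage_eq_opensRange_inf, Scheme.Opens.opensRange_ι, inf_comm] at h

/-- A compact family of generic points of components lies in an affine open. -/
theorem exists_affine_of_generic {S : Type u} [TopologicalSpace S] [CompactSpace S] (pc : S → G.left)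
    (hγ : Continuous pc) (hgen : ∀ x, IsGenericPoint (pc x) (irreducibleComponent (pc x))) :
    ∃ U : G.left.Opens, IsAffineOpen U ∧ ∀ x, pc x ∈ U := by
  have hloc : ∀ x, ∃ (V W : G.left.Opens), IsAffineOpen V ∧ IsClosed (W : Set G.left) ∧ pc x ∈ W ∧
      ∀ y, pc y ∈ W → pc y ∈ V := by
    intro x
    obtain ⟨V, hV, hxV, -⟩ := exists_isAffineOpen_mem_and_subset (X := G.left) (x := pc x) (U := ⊤) trivial
    have hsep : ∀ y, pc y ∉ V → ∃ W : G.left.Opens, IsClosed (W : Set G.left) ∧ pc x ∈ W ∧ pc y ∉ W := by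
      intro y hy
      have hx : pc x ∉ irreducibleComponent (pc y) := fun h => hy ((IsGenericPoint.eq (hgen x)
        (irreducibleComponent_eq_of_mem h ▸ hgen y)) ▸ hxV)
      obtain ⟨Q, hQ, hxQ, hQsub⟩ := exists_isAffineOpen_mem_and_subset (X := G.left) (x := pc x)
        (U := ⟨(irreducibleComponent (pc y))ᶜ, isClosed_irreducibleComponent.isOpen_compl⟩) hx
      have hc := isClopen_satOpen (G := G) Q.2 hQ.isCompact
      refine ⟨⟨_, hc.2⟩, hc.1, (mem_satOpen_iff Q.2 _).2 ⟨_, mem_irreducibleComponent, hxQ⟩, fun h => ?_⟩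
      obtain ⟨v, hv, hvQ⟩ := (mem_satOpen_iff Q.2 _).1 h
      exact hQsub hvQ hv
    let Y : Set S := (pc ⁻¹' (V : Set G.left))ᶜ
    have hY : IsCompact Y := (V.2.preimage hγ).isClosed_compl.isCompact
    choose W hWc hWx hWy using fun y : Y => hsep y.1 y.2
    obtain ⟨t, ht⟩ := hY.elim_finite_subcover (fun y : Y => pc ⁻¹' ((W y : Set G.left))ᶜ)
      (fun y => (hWc y).isOpen_compl.preimage hγ) fun y hy => Set.mem_iUnion.2 ⟨⟨y, hy⟩, hWy ⟨y, hy⟩⟩
    refine ⟨V, ⟨⋂ y ∈ t, (W y : Set G.left), isOpen_biInter_finset fun y _ => (W y).2⟩, hV,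
      isClosed_biInter fun y _ => hWc y, Set.mem_iInter₂.2 fun y _ => hWx y, fun y hy => by_contra fun h => ?_⟩
    obtain ⟨y', hy', h'⟩ := Set.mem_iUnion₂.1 (ht (show y ∈ Y from h))
    exact h' (Set.mem_iInter₂.1 hy y' hy')
  choose V W hV hWc hWmem hWV using hloc
  obtain ⟨t, ht⟩ := isCompact_univ.elim_finite_subcover (fun x => pc ⁻¹' (W x : Set G.left))
    (fun x => (W x).2.preimage hγ) fun x _ => Set.mem_iUnion.2 ⟨x, hWmem x⟩
  let e := t.equivFin
  let D : Fin t.card → Set G.left := fun i =>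
    (W (e.symm i).1 : Set G.left) ∩ ⋂ j ∈ (Finset.univ : Finset (Fin t.card)).filter (· < i), ((W (e.symm j).1 : Set G.left))ᶜ
  have hDo : ∀ i, IsOpen (D i) := fun i => (W _).2.inter (isOpen_biInter_finset fun j _ => (hWc _).isOpen_compl)
  have hDc : ∀ i, IsClosed (D i) := fun i => (hWc _).inter (isClosed_biInter fun j _ => (W _).2.isClosed_compl)
  refine ⟨⨆ i : ULift.{u} (Fin t.card), V (e.symm i.down).1 ⊓ ⟨D i.down, hDo i.down⟩,
    IsAffineOpen.iSup_of_disjoint (fun i => isAffineOpen_inf_isClopen (hV _) (hDc i.down)) ?_, fun x => ?_⟩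
  · intro i j hij
    rw [Function.onFun, disjoint_iff]
    refine TopologicalSpace.Opens.ext (Set.eq_empty_iff_forall_notMem.2 fun z hz => ?_)
    rcases lt_or_gt_of_ne (fun h => hij (ULift.down_injective h)) with h | h
    · exact Set.mem_iInter₂.1 hz.2.2.2 i.down (Finset.mem_filter.2 ⟨Finset.mem_univ _, h⟩) hz.1.2.1
    · exact Set.mem_iInter₂.1 hz.1.2.2 j.down (Finset.mem_filter.2 ⟨Finset.mem_univ _, h⟩) hz.2.2.1
  · classical
    obtain ⟨x₀, hx₀t, hx₀⟩ := Set.mem_iUnion₂.1 (ht (Set.mem_univ x))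
    let P := (Finset.univ : Finset (Fin t.card)).filter fun i => pc x ∈ W (e.symm i).1
    have hP : P.Nonempty := ⟨e ⟨x₀, hx₀t⟩, Finset.mem_filter.2 ⟨Finset.mem_univ _, by simpa using hx₀⟩⟩
    have hi := (Finset.mem_filter.1 (P.min'_mem hP)).2
    refine TopologicalSpace.Opens.mem_iSup.2 ⟨⟨P.min' hP⟩, hWV _ _ hi, hi, Set.mem_iInter₂.2 fun j hj h => ?_⟩
    exact (Finset.mem_filter.1 hj).2.not_ge (P.min'_le j (Finset.mem_filter.2 ⟨Finset.mem_univ _, h⟩))

theorem exists_affine_containing_range [JacobsonSpace G.left]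
    (hrat : ∀ g : G.left, IsClosed ({g} : Set G.left) →
      ∃ x : Spec (CommRingCat.of K) ⟶ G.left, x ≫ G.hom = 𝟙 _ ∧ x (IsLocalRing.closedPoint K) = g)
    {A : Type u} [CommRing A] [Algebra K A]
    (hA : ∀ s : Finset A, ∃ (B : Subalgebra K A) (n : ℕ), (↑s : Set A) ⊆ (B : Set A) ∧ Nonempty (B ≃ₐ[K] (Fin n → K)))
    (f : Spec (CommRingCat.of A) ⟶ G.left) (hf : f ≫ G.hom = Spec.map (CommRingCat.ofHom (algebraMap K A))) :
    ∃ U : G.left.Opens, IsAffineOpen U ∧ Set.range f ⊆ (U : Set G.left) := by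
  let T : Over (Spec (CommRingCat.of K)) := Over.mk (Spec.map (CommRingCat.ofHom (algebraMap K A)))
  let fG : T ⟶ G := Over.homMk f hf
  let m : T ⊗ G ⟶ G := (fst T G ≫ fG) * snd T G
  let Φ : (T ⊗ G).left ≃ₜ T.left × G.left :=
    (SplitColim.isHomeomorph_fst_snd hA G.hom).homeomorph
      (fun p : (T ⊗ G).left => ((fst T G).left p, (snd T G).left p))
  haveI : CompactSpace T.left := inferInstanceAs (CompactSpace ↥(Spec (CommRingCat.of A)))
  obtain ⟨gpt, hη⟩ := QuasiSober.sober (isIrreducible_irreducibleComponent (x := unitPt G)) isClosed_irreducibleComponent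
  let pc : T.left → G.left := fun x => m.left (Φ.symm (x, gpt))
  have hγc : Continuous pc := m.left.continuous.comp (Φ.symm.continuous.comp (continuous_id.prodMk continuous_const))
  have hgen : ∀ x, IsGenericPoint (pc x) (irreducibleComponent (pc x)) := by
    intro x
    obtain ⟨s, hs, hsx⟩ := SplitColim.exists_section hA x
    let s' : 𝟙_ (Over (Spec (CommRingCat.of K))) ⟶ T := Over.homMk s hs
    let L : G ⟶ G := (toUnit G ≫ s' ≫ fG) * 𝟙 G
    let L' : G ⟶ G := (toUnit G ≫ s' ≫ fG)⁻¹ * 𝟙 G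
    let j : G ⟶ T ⊗ G := lift (toUnit G ≫ s') (𝟙 G)
    have hj : j.left gpt = Φ.symm (x, gpt) := by
      apply Φ.injective
      rw [Homeomorph.apply_symm_apply]
      refine Prod.ext ?_ ?_
      · show (j ≫ fst T G).left gpt = x
        rw [lift_fst]
        show s ((toUnit G).left gpt) = x
        rw [← hsx]
        exact congrArg _ (Subsingleton.elim (α := PrimeSpectrum K) _ _)
      · show (j ≫ snd T G).left gpt = gpt
        rw [lift_snd]
        rfl
    have hjm : j ≫ m = L := by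
      rw [MonObj.comp_mul, ← Category.assoc, lift_fst, lift_snd, Category.assoc]
    have hγ : pc x = L.left gpt := by
      show m.left (Φ.symm (x, gpt)) = _
      rw [← hj, ← hjm]; rfl
    have hL : L' ≫ L = 𝟙 G := by
      rw [MonObj.comp_mul, Category.comp_id, ← Category.assoc, toUnit_unique (L' ≫ toUnit G) (toUnit G)]
      exact mul_inv_cancel_left _ _
    have hL' : L ≫ L' = 𝟙 G := by
      rw [MonObj.comp_mul, GrpObj.comp_inv, Category.comp_id, ← Category.assoc, toUnit_unique (L ≫ toUnit G) (toUnit G)]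
      exact inv_mul_cancel_left _ _
    have hC : irreducibleComponent (pc x) = closure {pc x} := by
      refine subset_antisymm (fun y hy => ?_)
        (closure_minimal (Set.singleton_subset_iff.2 mem_irreducibleComponent) isClosed_irreducibleComponent)
      have himg : IsIrreducible (L'.left '' irreducibleComponent (pc x)) :=
        isIrreducible_irreducibleComponent.image _ L'.left.continuous.continuousOn
      have hηm : gpt ∈ L'.left '' irreducibleComponent (pc x) :=
        ⟨pc x, mem_irreducibleComponent, by rw [hγ]; exact congrArg (fun q : G ⟶ G => q.left gpt) hL'⟩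
      have hsub := subset_irreducibleComponent himg hηm ⟨y, hy, rfl⟩
      rw [← irreducibleComponent_eq_of_mem hη.mem] at hsub
      have h1 := (hη.specializes hsub).map L.left.continuous
      rw [show L.left (L'.left y) = y from congrArg (fun q : G ⟶ G => q.left y) hL, ← hγ] at h1
      exact h1.mem_closure
    exact hC.symm
  obtain ⟨U, hU, hγU⟩ := exists_affine_of_generic pc hγc hgen
  let C : Set G.left := Prod.snd '' (Φ '' (m.left ⁻¹' (U : Set G.left))ᶜ)
  have hC : IsClosed C :=
    isClosedMap_snd_of_compactSpace _ (Φ.isClosedMap _ (U.2.preimage m.left.continuous).isClosed_compl)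
  have hηC : gpt ∉ C := by
    rintro ⟨⟨x, z⟩, ⟨p, hp, hpe⟩, rfl⟩
    have : p = Φ.symm (x, z) := by rw [← hpe, Homeomorph.symm_apply_apply]
    exact hp (this ▸ hγU x)
  obtain ⟨a, haC, ha⟩ := nonempty_inter_closedPoints (Z := Cᶜ) ⟨gpt, hηC⟩ hC.isOpen_compl.isLocallyClosed
  obtain ⟨ap, hap, hapa⟩ := hrat a ha
  let ah : 𝟙_ (Over (Spec (CommRingCat.of K))) ⟶ G := Over.homMk ap hap
  let R : G ⟶ G := 𝟙 G * (toUnit G ≫ ah)
  haveI : IsIso R := by
    refine ⟨𝟙 G * (toUnit G ≫ ah)⁻¹, ?_, ?_⟩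
    · rw [MonObj.comp_mul, GrpObj.comp_inv, Category.comp_id, ← Category.assoc, toUnit_unique (R ≫ toUnit G) (toUnit G)]
      exact mul_inv_cancel_right _ _
    · rw [MonObj.comp_mul, Category.comp_id, ← Category.assoc,
        toUnit_unique ((𝟙 G * (toUnit G ≫ ah)⁻¹) ≫ toUnit G) (toUnit G)]
      exact inv_mul_cancel_right _ _
  haveI : IsIso R.left := inferInstanceAs (IsIso ((Over.forget _).map R))
  refine ⟨R.left ⁻¹ᵁ U, hU.preimage R.left, ?_⟩
  rintro _ ⟨x, rfl⟩
  let q : T ⟶ T ⊗ G := lift (𝟙 T) (toUnit T ≫ ah)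
  have hq : q ≫ m = fG ≫ R := by
    rw [MonObj.comp_mul, ← Category.assoc, lift_fst, lift_snd, Category.id_comp, MonObj.comp_mul, Category.comp_id,
      ← Category.assoc fG, toUnit_unique (fG ≫ toUnit G) (toUnit T)]
  have hqa : (snd T G).left (q.left x) = a := by
    show (q ≫ snd T G).left x = a
    rw [lift_snd]
    show ap ((toUnit T).left x) = a
    rw [← hapa]
    exact congrArg _ (Subsingleton.elim (α := PrimeSpectrum K) _ _)
  show (fG ≫ R).left x ∈ U
  rw [← hq]
  by_contra hne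
  exact haC ⟨Φ (q.left x), ⟨q.left x, hne, rfl⟩, hqa⟩

end Groth.Agent.GrpSchLib
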