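import Mathlib
import Groth.Agent.JacobianLib.Basic

/-! A closed subscheme with split conormal sequence along a section is smooth along that section. -/

set_option autoImplicit false
universe u

open TensorProduct KaehlerDifferential IsLocalRing

noncomputable section

namespace Groth.Agent.GrpSchLib.UnitSection

variable {R A : Type u} [CommRing R] [CommRing A] [Algebra R A] (ε : A →ₐ[R] R)

theorem formallySmooth_of_minor {R P S : Type u} [CommRing R] [CommRing P] [Algebra R P] [CommRing S] [Algebra R S]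
    [Algebra P S] [IsScalarTower R P S] [Algebra.FormallySmooth R P] (hsurj : Function.Surjective (algebraMap P S))
    {m : ℕ} (f : Fin m → P) (hf : RingHom.ker (algebraMap P S) = Ideal.span (Set.range f))
    (Λ : Fin m → (Ω[P⁄R] →ₗ[P] P)) (hdet : IsUnit (Matrix.det (Matrix.of fun i j => Λ j (D R P (f i))))) :
    Algebra.FormallySmooth R S := by
  classical
  set I := RingHom.ker (algebraMap P S) with hI
  let M : Matrix (Fin m) (Fin m) P := Matrix.of fun i j => Λ j (D R P (f i))
  have hfm : ∀ i, f i ∈ I := fun i => hf ▸ Ideal.subset_span ⟨i, rfl⟩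
  let cl : Fin m → I.Cotangent := fun i => I.toCotangent ⟨f i, hfm i⟩
  let g : Fin m → I.Cotangent := fun j => ∑ k, M⁻¹ j k • cl k
  let Ψ : Ω[P⁄R] →ₗ[P] I.Cotangent := ∑ j, (Λ j).smulRight (g j)
  have hΨ : ∀ i, Ψ (D R P (f i)) = cl i := by
    intro i
    simp only [Ψ, LinearMap.sum_apply, LinearMap.smulRight_apply, g, Finset.smul_sum, smul_smul]
    rw [Finset.sum_comm]
    simp only [← Finset.sum_smul]
    have h1 : ∀ k, ∑ j, Λ j (D R P (f i)) * M⁻¹ j k = (1 : Matrix (Fin m) (Fin m) P) i k := fun k => by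
      rw [← Matrix.mul_nonsing_inv M hdet, Matrix.mul_apply]; rfl
    simp [h1, Matrix.one_apply]
  have hann : ∀ a ∈ I, ∀ z : I.Cotangent, a • z = 0 := by
    intro a ha z
    obtain ⟨z, rfl⟩ := I.toCotangent_surjective z
    rw [← map_smul, Ideal.toCotangent_eq_zero, pow_two]
    exact Ideal.mul_mem_mul ha z.2
  have hΨI : ∀ x (hx : x ∈ I), Ψ (D R P x) = I.toCotangent ⟨x, hx⟩ := by
    intro x hx
    have hx' : x ∈ Ideal.span (Set.range f) := hf ▸ hx
    induction hx' using Submodule.span_induction with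
    | mem y hy => obtain ⟨i, rfl⟩ := hy; exact hΨ i
    | zero =>
      rw [map_zero, map_zero, show (⟨0, hx⟩ : I) = 0 from rfl, map_zero]
    | add a b ha hb iha ihb =>
      rw [map_add, map_add, iha (hf ▸ ha), ihb (hf ▸ hb)]
      rw [← map_add]; rfl
    | smul r a ha iha =>
      have ha' : a ∈ I := hf ▸ ha
      show Ψ (D R P (r * a)) = _
      rw [Derivation.leibniz, map_add, map_smul, map_smul, iha ha', hann a ha', add_zero, ← map_smul]
      rfl
  let θ : (P ⧸ I) ≃ₐ[P] S := Ideal.quotientKerAlgEquivOfSurjective (f := Algebra.ofId P S) hsurj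
  have hker : I • (⊤ : Submodule P Ω[P⁄R]) ≤ LinearMap.ker Ψ :=
    Submodule.smul_le.2 fun a ha z _ => by rw [LinearMap.mem_ker, map_smul, hann a ha]
  let l : S ⊗[P] Ω[P⁄R] →ₗ[P] I.Cotangent :=
    (Submodule.liftQ _ Ψ hker) ∘ₗ (quotTensorEquivQuotSMul Ω[P⁄R] I).toLinearMap ∘ₗ
      (TensorProduct.congr θ.toLinearEquiv.symm (LinearEquiv.refl P Ω[P⁄R])).toLinearMap
  refine (Algebra.FormallySmooth.iff_split_injection hsurj).2 ⟨l, ?_⟩
  refine LinearMap.ext fun z => ?_
  obtain ⟨⟨x, hx⟩, rfl⟩ := I.toCotangent_surjective z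
  rw [LinearMap.comp_apply, kerCotangentToTensor_toCotangent, LinearMap.id_apply]
  simp only [l, LinearMap.comp_apply, LinearEquiv.coe_coe, TensorProduct.congr_tmul, LinearEquiv.refl_apply]
  rw [show θ.toLinearEquiv.symm 1 = 1 from map_one θ.symm, quotTensorEquivQuotSMul_mk_one_tmul,
    Submodule.liftQ_apply]
  exact hΨI x hx

theorem sub_mem_ker (a : A) : a - algebraMap R A (ε a) ∈ RingHom.ker ε := by simp

/-- An element of `J` in `Q I` lies in `Q J`. -/
theorem mem_mul_of_mem_mul {J : Ideal A} (hJI : J ≤ RingHom.ker ε)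
    (h2 : J ⊓ RingHom.ker ε ^ 2 = RingHom.ker ε * J)
    (h3 : Module.Projective R (↥(RingHom.ker ε) ⧸ Submodule.comap (RingHom.ker ε).subtype (J ⊔ RingHom.ker ε ^ 2)))
    {Q : Ideal A} (hQ : RingHom.ker ε ≤ Q) {z : A} (hzJ : z ∈ J) (hz : z ∈ Q * RingHom.ker ε) : z ∈ Q * J := by
  let I := RingHom.ker ε
  let C := Submodule.comap I.subtype (J ⊔ I ^ 2)
  obtain ⟨s, hs⟩ := Module.projective_lifting_property (C.mkQ.restrictScalars R) LinearMap.id C.mkQ_surjective
  have hs' : ∀ v, Submodule.Quotient.mk (p := C) (s v) = v := fun v => LinearMap.congr_fun hs v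
  let r : I →ₗ[R] A := (I.subtype.restrictScalars R).comp (LinearMap.id - s.comp (C.mkQ.restrictScalars R))
  have hr : ∀ i : I, r i ∈ J ⊔ I ^ 2 := fun i => by
    have : i - s (Submodule.Quotient.mk i) ∈ C := by
      rw [← Submodule.Quotient.mk_eq_zero, Submodule.Quotient.mk_sub, hs', sub_self]
    exact this
  have hr0 : ∀ i : I, (i : A) ∈ J ⊔ I ^ 2 → r i = i := fun i hi => by
    have : Submodule.Quotient.mk (p := C) i = 0 := (Submodule.Quotient.mk_eq_zero C).2 hi
    simp [r, this]
  have hI2 : I ^ 2 ≤ J ⊔ I ^ 2 := le_sup_right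
  have key : ∀ y ∈ Q * I, ∃ hy : y ∈ I, r ⟨y, hy⟩ ∈ Q * J ⊔ I ^ 2 := by
    intro y hy
    refine Submodule.mul_induction_on hy (fun a ha i hi => ⟨I.mul_mem_left a hi, ?_⟩) ?_
    · have h1 : (⟨a * i, I.mul_mem_left a hi⟩ : I) = ε a • ⟨i, hi⟩ +
          ⟨(a - algebraMap R A (ε a)) * i, I.mul_mem_left _ hi⟩ := by
        ext
        simp [Algebra.smul_def]
        ring
      have ht : (a - algebraMap R A (ε a)) * i ∈ I ^ 2 := by
        rw [pow_two]; exact Ideal.mul_mem_mul (sub_mem_ker ε a) hi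
      rw [h1, map_add, map_smul, hr0 ⟨_, _⟩ (hI2 ht)]
      refine add_mem ?_ (Submodule.mem_sup_right ht)
      have hp : algebraMap R A (ε a) ∈ Q := by
        have := sub_mem ha (hQ (sub_mem_ker ε a)); simpa using this
      have h4 : algebraMap R A (ε a) * r ⟨i, hi⟩ ∈ Q * (J ⊔ I ^ 2) := Ideal.mul_mem_mul hp (hr _)
      rw [Ideal.mul_sup] at h4
      rw [Algebra.smul_def]
      exact (sup_le le_sup_left (le_sup_of_le_right Ideal.mul_le_right) : Q * J ⊔ Q * I ^ 2 ≤ Q * J ⊔ I ^ 2) h4
    · rintro x y ⟨hx, hx'⟩ ⟨hy, hy'⟩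
      refine ⟨add_mem hx hy, ?_⟩
      rw [show (⟨x + y, add_mem hx hy⟩ : I) = ⟨x, hx⟩ + ⟨y, hy⟩ from rfl, map_add]
      exact add_mem hx' hy'
  obtain ⟨hzI, hz'⟩ := key z hz
  rw [hr0 ⟨z, hzI⟩ (Submodule.mem_sup_left hzJ), Submodule.mem_sup] at hz'
  obtain ⟨w, hw, t, ht, hwt⟩ := hz'
  have htJ : t ∈ J := by
    have : t = z - w := eq_sub_of_add_eq' hwt
    exact this ▸ sub_mem hzJ (Ideal.mul_le_right hw)
  have : t ∈ Q * J := Ideal.mul_mono_left hQ (h2.le ⟨htJ, ht⟩)
  rw [show z = w + t from hwt.symm]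
  exact add_mem hw this

theorem isSmoothAt (R A : Type u) [CommRing R] [CommRing A] [Algebra R A]
    [Algebra.Smooth R A] (ε : A →ₐ[R] R) (J : Ideal A) (hJI : J ≤ RingHom.ker ε)
    (h1 : J.FG) (h2 : J ⊓ RingHom.ker ε ^ 2 = RingHom.ker ε * J)
    (h3 : Module.Projective R (↥(RingHom.ker ε) ⧸ Submodule.comap (RingHom.ker ε).subtype (J ⊔ RingHom.ker ε ^ 2)))
    (P : Ideal (A ⧸ J)) [P.IsPrime] (hP : (RingHom.ker ε).map (Ideal.Quotient.mk J) ≤ P) :
    Algebra.IsSmoothAt R P := by
  classical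
  let Q : Ideal A := P.comap (Ideal.Quotient.mk J)
  have hQ : RingHom.ker ε ≤ Q := Ideal.map_le_iff_le_comap.1 hP
  let L := Localization.AtPrime Q
  let J' := J.map (algebraMap A L)
  obtain ⟨s₀, hs₀⟩ := h1
  let good : Finset A → Prop := fun s => (↑s : Set A) ⊆ J ∧ Ideal.span (algebraMap A L '' ↑s) = J'
  have hgood : good s₀ := ⟨hs₀ ▸ Ideal.subset_span, by rw [← Ideal.map_span, hs₀]⟩
  obtain ⟨s, -, hs⟩ := exists_minimal_le_of_wellFoundedLT good s₀ hgood
  obtain ⟨⟨hsJ, hsp⟩, hmin⟩ := hs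
  let f : Fin s.card → A := fun i => (s.equivFin.symm i : A)
  have hf : Set.range f = ↑s := by
    ext a
    exact ⟨fun ⟨i, hi⟩ => hi ▸ (s.equivFin.symm i).2, fun ha => ⟨s.equivFin ⟨a, ha⟩, by simp [f]⟩⟩
  have hfinj : Function.Injective f := Subtype.val_injective.comp s.equivFin.symm.injective
  have hfJ : ∀ i, f i ∈ J := fun i => hsJ (hf ▸ Set.mem_range_self i)
  -- minimality
  have hindep : ∀ c : Fin s.card → A, ∑ i, c i * f i ∈ Q * J → ∀ i, c i ∈ Q := by
    intro c hc j
    by_contra hj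
    have hu : IsUnit (algebraMap A L (c j)) := (IsLocalization.AtPrime.isUnit_to_map_iff L Q (c j)).2 hj
    let s' := s.erase (f j)
    have hfjs : f j ∈ s := by rw [← Finset.mem_coe, ← hf]; exact ⟨j, rfl⟩
    have hle : J' ≤ Ideal.span (algebraMap A L '' ↑s') ⊔ maximalIdeal L * J' := by
      rw [← hsp, Ideal.span_le]
      rintro _ ⟨a, ha, rfl⟩
      by_cases haj : a = f j
      · subst haj
        have hmem : algebraMap A L (c j) * algebraMap A L (f j) ∈
            Ideal.span (algebraMap A L '' ↑s') ⊔ maximalIdeal L * Ideal.span (algebraMap A L '' ↑s) := by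
          have hrest : ∑ i ∈ Finset.univ.erase j, algebraMap A L (c i) * algebraMap A L (f i) ∈
              Ideal.span (algebraMap A L '' ↑s') :=
            sum_mem fun i hi => Ideal.mul_mem_left _ _ (Ideal.subset_span ⟨f i,
              Finset.mem_erase.2 ⟨fun h => (Finset.mem_erase.1 hi).1 (hfinj h),
                by rw [← Finset.mem_coe, ← hf]; exact ⟨i, rfl⟩⟩, rfl⟩)
          have htot : algebraMap A L (∑ i, c i * f i) ∈ maximalIdeal L * Ideal.span (algebraMap A L '' ↑s) := by
            rw [hsp, ← Localization.AtPrime.map_eq_maximalIdeal, ← Ideal.map_mul]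
            exact Ideal.mem_map_of_mem _ hc
          rw [← Finset.add_sum_erase _ _ (Finset.mem_univ j), map_add, map_sum] at htot
          simp only [map_mul] at htot
          have := sub_mem (Submodule.mem_sup_right htot) (Submodule.mem_sup_left hrest)
          simpa using this
        obtain ⟨v, hv⟩ := hu.exists_left_inv
        have h5 := Ideal.mul_mem_left _ v hmem
        rwa [← mul_assoc, hv, one_mul] at h5
      · exact Submodule.mem_sup_left (Ideal.subset_span ⟨a, Finset.mem_erase.2 ⟨haj, ha⟩, rfl⟩)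
    have hJ'fg : J'.FG := Ideal.FG.map ⟨s₀, hs₀⟩ _
    have hle' : J' ≤ Ideal.span (algebraMap A L '' ↑s') :=
      Submodule.le_of_le_smul_of_le_jacobson_bot hJ'fg (IsLocalRing.maximalIdeal_le_jacobson _) hle
    have h' : good s' := ⟨fun a ha => hsJ (Finset.mem_of_mem_erase ha),
      le_antisymm (hsp ▸ Ideal.span_mono (Set.image_mono (Finset.coe_subset.2 (s.erase_subset _)))) hle'⟩
    exact Finset.notMem_erase (f j) s (hmin h' (s.erase_subset _) hfjs)
  -- the derivation `a ↦ a - ε a`
  let N := Q * RingHom.ker ε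
  let δ0 : A →ₗ[R] A ⧸ N :=
    (Ideal.Quotient.mkₐ R N).toLinearMap.comp (LinearMap.id - (Algebra.linearMap R A).comp ε.toLinearMap)
  let δ : Derivation R A (A ⧸ N) := Derivation.mk' δ0 fun a b => by
    show Ideal.Quotient.mk N _ = a • Ideal.Quotient.mk N _ + b • Ideal.Quotient.mk N _
    rw [Algebra.smul_def, Algebra.smul_def, Ideal.Quotient.algebraMap_eq, ← map_mul, ← map_mul, ← map_add,
      Ideal.Quotient.eq]
    simp only [LinearMap.sub_apply, LinearMap.id_apply, LinearMap.comp_apply, AlgHom.toLinearMap_apply,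
      Algebra.linearMap_apply, map_mul]
    have := Ideal.mul_mem_mul (hQ (sub_mem_ker ε a)) (sub_mem_ker ε b)
    convert neg_mem this using 1
    ring
  have hδ : ∀ x, δ.liftKaehlerDifferential x ∈ (RingHom.ker ε).map (Ideal.Quotient.mk N) := by
    intro x
    induction (span_range_derivation R A).ge (Submodule.mem_top (x := x)) using Submodule.span_induction with
    | mem y hy =>
      obtain ⟨a, rfl⟩ := hy
      rw [Derivation.liftKaehlerDifferential_comp_D]
      exact Ideal.mem_map_of_mem _ (sub_mem_ker ε a)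
    | zero => simp
    | add y z _ _ hy hz => rw [map_add]; exact add_mem hy hz
    | smul a y _ hy =>
      rw [map_smul, Algebra.smul_def]
      exact Ideal.mul_mem_left _ _ hy
  obtain ⟨D', hdet⟩ := JacobianLib.exists_derivations (R := R) Q f fun c hc i => by
    refine hindep c (mem_mul_of_mem_mul ε hJI h2 h3 hQ (sum_mem fun i _ => J.mul_mem_left _ (hfJ i)) ?_) i
    rw [← Ideal.Quotient.eq_zero_iff_mem]
    have h0 : δ.liftKaehlerDifferential (∑ j, c j • D R A (f j)) = 0 := by
      refine (?_ : Q • (⊤ : Submodule A Ω[A⁄R]) ≤ LinearMap.ker δ.liftKaehlerDifferential) hc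
      refine Submodule.smul_le.2 fun a ha x _ => ?_
      rw [LinearMap.mem_ker, map_smul]
      obtain ⟨i, hi, hix⟩ := (Ideal.mem_map_iff_of_surjective _ Ideal.Quotient.mk_surjective).1 (hδ x)
      rw [← hix, Algebra.smul_def, Ideal.Quotient.algebraMap_eq, ← map_mul, Ideal.Quotient.eq_zero_iff_mem]
      exact Ideal.mul_mem_mul ha hi
    rw [← h0, map_sum, map_sum]
    refine Finset.sum_congr rfl fun j _ => ?_
    rw [map_smul, Derivation.liftKaehlerDifferential_comp_D, Algebra.smul_def, Ideal.Quotient.algebraMap_eq, map_mul]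
    congr 1
    show _ = Ideal.Quotient.mk N _
    congr 1
    simp [(RingHom.mem_ker.1 (hJI (hfJ j)))]
  -- localise
  let S := Localization.AtPrime P
  let φ : L →+* S := Localization.localRingHom Q P (Ideal.Quotient.mk J) rfl
  letI := φ.toAlgebra
  haveI : IsScalarTower R L S := IsScalarTower.of_algebraMap_eq fun c => by
    rw [IsScalarTower.algebraMap_apply R A L, RingHom.algebraMap_toAlgebra]
    show _ = φ _
    rw [Localization.localRingHom_to_map, IsScalarTower.algebraMap_apply R (A ⧸ J) S]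
    rfl
  have hsurj : Function.Surjective (algebraMap L S) :=
    RingHom.surjective_localRingHom_of_surjective (Ideal.Quotient.mk J) Ideal.Quotient.mk_surjective P
  haveI : Algebra.FormallySmooth A L := .of_isLocalization Q.primeCompl
  haveI : Algebra.FormallyEtale A L := .of_isLocalization Q.primeCompl
  haveI : Algebra.FormallySmooth R L := .comp R A L
  have hker : RingHom.ker (algebraMap L S) = Ideal.span (Set.range fun i => algebraMap A L (f i)) := by
    rw [show (Set.range fun i => algebraMap A L (f i)) = algebraMap A L '' ↑s by rw [← hf, ← Set.range_comp]; rfl,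
      hsp, RingHom.algebraMap_toAlgebra]
    refine (IsLocalization.ker_map (S := L) (Q := S) (g := Ideal.Quotient.mk J) (M := Q.primeCompl) ?_).trans ?_
    · ext y
      obtain ⟨a, rfl⟩ := Ideal.Quotient.mk_surjective y
      simp only [Submonoid.mem_map, Ideal.mem_primeCompl_iff]
      exact ⟨fun ⟨b, hb, hba⟩ h => hb (show Ideal.Quotient.mk J b ∈ P from hba ▸ h),
        fun h => ⟨a, h, rfl⟩⟩
    · rw [Ideal.mk_ker]
  let e := tensorKaehlerEquivOfFormallyEtale R A L
  let Λ : Fin s.card → (Ω[L⁄R] →ₗ[L] L) := fun j =>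
    (AlgebraTensorModule.rid A L L).toLinearMap ∘ₗ
      ((D' j).liftKaehlerDifferential.baseChange L) ∘ₗ e.symm.toLinearMap
  have hΛ : ∀ i j, Λ j (D R L (algebraMap A L (f i))) = algebraMap A L (D' j (f i)) := fun i j => by
    have he : e ((1 : L) ⊗ₜ[A] D R A (f i)) = D R L (algebraMap A L (f i)) := by
      simp [e]
    simp only [Λ, LinearMap.comp_apply, LinearEquiv.coe_coe, ← he, LinearEquiv.symm_apply_apply,
      LinearMap.baseChange_tmul, Derivation.liftKaehlerDifferential_comp_D]
    simp [Algebra.smul_def]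
  refine formallySmooth_of_minor (R := R) hsurj (fun i => algebraMap A L (f i)) hker Λ ?_
  simp only [hΛ]
  have hM : (Matrix.of fun i j => algebraMap A L (D' j (f i))) =
      (algebraMap A L).mapMatrix (Matrix.of fun i j => D' j (f i)) := rfl
  rw [hM, ← RingHom.map_det]
  exact (IsLocalization.AtPrime.isUnit_to_map_iff L Q _).2 hdet

end Groth.Agent.GrpSchLib.UnitSection
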